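import Groth.Agent.FEtProperConn.Repr

/-!
# Covers split on the geometric fibres descend
-/

set_option autoImplicit false
set_option linter.style.haveILetI false
set_option maxHeartbeats 1000000
set_option backward.isDefEq.respectTransparency.types false
set_option backward.isDefEq.respectTransparency false

universe u

open CategoryTheory CategoryTheory.Limits AlgebraicGeometry Opposite

noncomputable section

namespace Groth.Agent.FEtProperConn

open Groth.Agent Groth.Agent.EtaleSite
open Groth.Agent.LccRepLib (res res_comp sigma sigmaι sigmaOpen sigmaDesc sigmaι_desc etale_hom_ext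
  RepOn prodFst prodSnd)
open Groth.Agent.HTopBig.SetsBC (eta)

variable {X S : Scheme.{u}}

/-- Finite étale covers split on geometric fibres come from the base. -/
theorem exists_descends (f : X ⟶ S) [IsProper f] [Surjective f]
    (hconn : ∀ (K : Type u) [Field K] [IsAlgClosed K] (ξ : Spec (CommRingCat.of K) ⟶ S),
      ConnectedSpace ↑(pullback f ξ))
    (X' : FEt.Cat X)
    (hsplit : ∀ (K : Type u) [Field K] [IsAlgClosed K] (ξ : Spec (CommRingCat.of K) ⟶ S),
      Pi1.IsSplit ((FEt.restrict (pullback.fst f ξ)).obj X')) :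
    ∃ S' : FEt.Cat S, Nonempty ((FEt.restrict f).obj S' ≅ X') := by
  classical
  let U : X.Etale := Scheme.Etale.mk X'.hom
  haveI : IsFinite U.hom := inferInstanceAs (IsFinite X'.hom)
  choose ι hι V v t hv ht using exists_split f X' hsplit
  let D : S → S.Etale := fun s => sigma fun _ : ι s => V s
  let π : ∀ s, D s ⟶ V s := fun s => sigmaDesc (fun _ : ι s => V s) fun _ => 𝟙 (V s)
  choose a₀ ha₀ hrep using fun s => exists_rep_split (f := f) U hconn (t s) (ht s)
  obtain ⟨at₀, hat₀⟩ := exists_bc_sigma_desc f U D a₀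
  have R := LccRepLib.rep_sigma (bigF f U) V D π (IsRep f U) (fun k s h => isRep_stable f U k s h)
    (fun s => eta (hSh U) (el (a₀ s))) hrep (eta (hSh U) (el at₀))
    (fun s => (res_eta f U (sigmaι D s) at₀).trans (congrArg (fun z => eta (hSh U) (el z)) (hat₀ s)))
    ⟨at₀, rfl⟩
  haveI : ∀ s, IsFinite (π s).left := fun s => haveI := hι s; LccRepLib.isFinite_fold
  haveI : IsFinite (sigmaDesc D fun s => π s ≫ sigmaι V s).left := LccRepLib.isFinite_sigmaDesc V D π
  haveI : Surjective (sigma V).hom := ⟨fun s => ⟨(sigmaι V s).left (v s), by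
    refine ((Scheme.Hom.comp_apply _ _ _).symm.trans ?_).trans (hv s)
    exact congrArg (fun k : (V s).left ⟶ S => k (v s)) (MorphismProperty.Over.w (sigmaι V s))⟩⟩
  obtain ⟨T, hT, η, ⟨a, rfl⟩, hinj, hsurj⟩ :=
    LccRepLib.exists_repr' R fun k s hk h => isRep_local f U k s hk h
  haveI : Etale T.hom := T.prop
  let S' : FEt.Cat S := FEtCat.Basic.mk T.hom
  let φ : (FEt.restrict f).obj S' ⟶ X' :=
    FEtCat.Basic.homMk (Y := (FEt.restrict f).obj S') a.left (MorphismProperty.Over.w a)
  have hai : ∀ s i, ∃ b : V s ⟶ T, (EtCoh.bc f).map b ≫ a = t s i := fun s i => by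
    obtain ⟨b, hb⟩ := hsurj (V s) (eta (hSh U) (el (t s i))) ⟨_, rfl⟩
    exact ⟨b, el_eq f U ((res_eta f U b a).symm.trans hb)⟩
  choose b hb using hai
  haveI : IsIso φ := by
    refine FEtCat.Basic.isIso_of_forall_bijective φ fun Ω _ _ ρ => ?_
    let ξ := ρ ≫ f
    let s := ξ (default : Spec (CommRingCat.of Ω))
    haveI : Etale (V s).hom := (V s).prop
    obtain ⟨l, hl, hld⟩ := Scheme.exists_fac_of_etale_of_isSepClosed (V s).hom ξ (v s) (hv s)
    let x : Spec (CommRingCat.of Ω) ⟶ ((EtCoh.bc f).obj (V s)).left := pullback.lift l ρ hl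
    have key : ∀ u : Spec (CommRingCat.of Ω) ⟶ T.left, u ≫ T.hom = ξ →
        ∃ i, u = l ≫ (b s i).left := by
      intro u hu
      let W := LccRepLib.prod (V s) T
      let w : Spec (CommRingCat.of Ω) ⟶ W.left := pullback.lift l u (hl.trans hu.symm)
      obtain ⟨v', ⟨hv', hv'a⟩, -⟩ := (hrep s).exists_unique W (prodFst (V s) T)
        (eta (hSh U) (el ((EtCoh.bc f).map (prodSnd (V s) T) ≫ a))) ⟨_, rfl⟩
      have hva : (EtCoh.bc f).map v' ≫ a₀ s = (EtCoh.bc f).map (prodSnd (V s) T) ≫ a :=
        el_eq f U ((res_eta f U v' (a₀ s)).symm.trans hv'a)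
      obtain ⟨i, hi⟩ := LccRepLib.exists_mem_sigmaOpen (fun _ : ι s => V s) (v'.left (w default))
      let O : W.left.Opens := v'.left ⁻¹ᵁ sigmaOpen (fun _ : ι s => V s) i
      obtain ⟨k, hk⟩ := LccRepLib.exists_lift_piece (fun _ : ι s => V s) v' O i fun _ h => h
      have hk' : k = pieceHom W O ≫ prodFst (V s) T := by
        have e := congrArg (· ≫ sigmaDesc (fun _ : ι s => V s) fun _ => 𝟙 (V s)) hk
        simp only [Category.assoc, sigmaι_desc, Category.comp_id] at e
        rw [e, hv']
      have he : pieceHom W O ≫ prodSnd (V s) T = pieceHom W O ≫ prodFst (V s) T ≫ b s i := by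
        refine hinj _ _ _ ((res_eta f U _ a).trans (Eq.trans ?_ (res_eta f U _ a).symm))
        refine congrArg (fun z => eta (hSh U) (el z)) ?_
        rw [Functor.map_comp, Category.assoc, ← hva, ← Functor.map_comp_assoc, ← hk, hk',
          Functor.map_comp, Functor.map_comp, Category.assoc, Category.assoc, ha₀ s i,
          Functor.map_comp, Functor.map_comp, Category.assoc, Category.assoc, hb s i]
      have hr : Set.range w ⊆ Set.range O.ι := by
        rw [Scheme.Opens.range_ι]
        rintro _ ⟨o, rfl⟩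
        rw [Subsingleton.elim o default]
        exact hi
      have hw : IsOpenImmersion.lift O.ι w hr ≫ O.ι = w := IsOpenImmersion.lift_fac _ _ _
      have e := congrArg (fun m => IsOpenImmersion.lift O.ι w hr ≫ m.left) he
      refine ⟨i, ?_⟩
      refine ((pullback.lift_snd l u (hl.trans hu.symm)).symm.trans
        ((congrArg (· ≫ pullback.snd (V s).hom T.hom) hw.symm).trans
          ((Category.assoc _ _ _).trans e))).trans ?_
      refine (Category.assoc _ _ _).symm.trans ((congrArg (· ≫ _) hw).trans ?_)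
      exact (Category.assoc _ _ _).symm.trans (congrArg (· ≫ (b s i).left) (pullback.lift_fst _ _ _))
    have hpt : ∀ i, x ≫ (t s i).left = (x ≫ ((EtCoh.bc f).map (b s i)).left) ≫ a.left := fun i => by
      rw [← hb s i]
      exact (Category.assoc _ _ _).symm
    have hshape : ∀ z : FEt.fiberObj ρ ((FEt.restrict f).obj S'),
        ∃ i, z.1 = x ≫ ((EtCoh.bc f).map (b s i)).left := by
      intro z
      have hz : z.1 ≫ pullback.snd T.hom f = ρ := z.2
      obtain ⟨i, hi⟩ := key (z.1 ≫ pullback.fst T.hom f) (by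
        rw [Category.assoc, pullback.condition, ← Category.assoc, hz])
      refine ⟨i, pullback.hom_ext ?_ ?_⟩
      · refine hi.trans ?_
        refine Eq.trans ?_ ((congrArg (x ≫ ·) (EtCoh.isPullback_bc_map f (b s i)).w.symm).trans
          (Category.assoc _ _ _).symm)
        exact (congrArg (· ≫ (b s i).left) (pullback.lift_fst _ _ _).symm).trans (Category.assoc _ _ _)
      · refine hz.trans ?_
        refine Eq.trans ?_ ((congrArg (x ≫ ·)
          (MorphismProperty.Over.w ((EtCoh.bc f).map (b s i))).symm).trans (Category.assoc _ _ _).symm)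
        exact (pullback.lift_snd _ _ _).symm
    constructor
    · intro z₁ z₂ h
      obtain ⟨i, hi⟩ := hshape z₁
      obtain ⟨j, hj⟩ := hshape z₂
      have h' : z₁.1 ≫ a.left = z₂.1 ≫ a.left := congrArg Subtype.val h
      rw [hi, hj, ← hpt, ← hpt] at h'
      exact Subtype.ext (hi.trans ((congrArg (fun k => x ≫ ((EtCoh.bc f).map (b s k)).left)
        ((ht s Ω x).1 h')).trans hj.symm))
    · intro z
      obtain ⟨i, hi⟩ := (ht s Ω x).2 z.1 (z.2.trans (pullback.lift_snd _ _ _).symm)
      refine ⟨⟨x ≫ ((EtCoh.bc f).map (b s i)).left, ?_⟩, Subtype.ext ((hpt i).symm.trans hi)⟩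
      exact (Category.assoc _ _ _).trans
        ((congrArg (x ≫ ·) (MorphismProperty.Over.w ((EtCoh.bc f).map (b s i)))).trans
          (pullback.lift_snd _ _ _))
  exact ⟨S', ⟨asIso φ⟩⟩

end Groth.Agent.FEtProperConn
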