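import Groth.Agent.HTopBig.SetsPBC
import Groth.Agent.EtaleSite.RepSh
import Groth.Agent.DescSh.Germ
import Groth.Prelude.Def_FEt

/-!
# Sections over a geometric fibre of a proper morphism extend to étale neighbourhoods
-/

set_option autoImplicit false
set_option linter.style.haveILetI false
set_option maxHeartbeats 1000000
set_option backward.isDefEq.respectTransparency.types false
set_option backward.isDefEq.respectTransparency false

universe u

open CategoryTheory CategoryTheory.Limits AlgebraicGeometry Opposite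

noncomputable section

namespace Groth.Agent.FEtProperConn

open Groth.Agent Groth.Agent.EtaleSite

variable {X S : Scheme.{u}}

/-- The sheaf of sets represented by an étale scheme. -/
abbrev hSh (U : X.Etale) : EtDesc.Sh X :=
  ⟨yoneda.obj U ⋙ uliftFunctor.{u + 1, u}, RepSh.isSheaf_yoneda U⟩

/-- A morphism as a section of the represented sheaf. -/
abbrev el {W U : X.Etale} (a : W ⟶ U) : (hSh U).obj.obj (op W) := ULift.up.{u + 1, u} a

theorem el_res {W' W U : X.Etale} (k : W' ⟶ W) (a : W ⟶ U) :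
    (hSh U).obj.map k.op (el a) = el (k ≫ a) := rfl

/-- Equal germs of a represented sheaf give equal points. -/
theorem point_eq_of_germ_eq {U : X.Etale} {Ω : Type u} [Field Ω] [IsSepClosed Ω]
    {ρ : Spec (CommRingCat.of Ω) ⟶ X} {W₁ W₂ : X.Etale}
    {x₁ : (Scheme.pointSmallEtale ρ).fiber.obj W₁} {x₂ : (Scheme.pointSmallEtale ρ).fiber.obj W₂}
    {a₁ : W₁ ⟶ U} {a₂ : W₂ ⟶ U}
    (e : SetStalk.germ ρ (hSh U) W₁ x₁ (el a₁) = SetStalk.germ ρ (hSh U) W₂ x₂ (el a₂)) :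
    x₁.left ≫ a₁.left = x₂.left ≫ a₂.left := by
  obtain ⟨z, ⟨p₁, hp₁⟩, ⟨p₂, hp₂⟩, -⟩ :=
    IsCofilteredOrEmpty.cone_objs ((Scheme.pointSmallEtale ρ).fiber.elementsMk _ x₁)
      ((Scheme.pointSmallEtale ρ).fiber.elementsMk _ x₂)
  dsimp at p₁ p₂ hp₁ hp₂
  rw [← hp₁, ← hp₂, ← SetStalk.germ_res, ← SetStalk.germ_res, SetStalk.germ_eq_iff] at e
  obtain ⟨W, k, w, hw, h⟩ := e
  have hk : (k ≫ p₁ ≫ a₁).left = (k ≫ p₂ ≫ a₂).left :=
    congrArg (fun m => m.left) (congrArg ULift.down h)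
  have hw₁ : w.left ≫ (k ≫ p₁).left = x₁.left := by
    refine ((Category.assoc _ _ _).symm.trans ?_).trans (congrArg (fun q => q.left) hp₁)
    exact congrArg (· ≫ p₁.left) (congrArg (fun q => q.left) hw)
  have hw₂ : w.left ≫ (k ≫ p₂).left = x₂.left := by
    refine ((Category.assoc _ _ _).symm.trans ?_).trans (congrArg (fun q => q.left) hp₂)
    exact congrArg (· ≫ p₂.left) (congrArg (fun q => q.left) hw)
  rw [← hw₁, ← hw₂]
  simp only [MorphismProperty.Comma.comp_left, Category.assoc] at hk ⊢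
  exact congrArg (w.left ≫ ·) hk

variable (f : X ⟶ S) {L : Type u} [Field L] [IsAlgClosed L]

/-- A section over a geometric fibre of a proper morphism extends to an étale neighbourhood. -/
theorem exists_lift_section [IsProper f] (ξ : Spec (CommRingCat.of L) ⟶ S) (U : X.Etale)
    (σ : pullback f ξ ⟶ U.left) (hσ : σ ≫ U.hom = pullback.fst f ξ) :
    ∃ (V : S.Etale) (v : (Scheme.pointSmallEtale ξ).fiber.obj V) (a : (EtCoh.bc f).obj V ⟶ U),
      ∀ (ρ : Spec (CommRingCat.of L) ⟶ pullback f ξ) (hρ : ρ ≫ pullback.snd f ξ = 𝟙 _)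
        (h : (ρ ≫ pullback.fst f ξ) ≫ f = ξ),
        (bcPt f (ρ ≫ pullback.fst f ξ) h V v).left ≫ a.left = ρ ≫ σ := by
  let P := pullback f ξ
  let pr : P ⟶ X := pullback.fst f ξ
  let sn : P ⟶ Spec (CommRingCat.of L) := pullback.snd f ξ
  let τ₀ : EtCoh.top P ⟶ (EtCoh.bc pr).obj U :=
    MorphismProperty.Over.homMk (pullback.lift σ (𝟙 P) (hσ.trans (Category.id_comp _).symm))
      (pullback.lift_snd _ _ _) trivial
  let T := EtCoh.top (Spec (CommRingCat.of L))
  let β : (EtCoh.bc sn).obj T ⟶ EtCoh.top P := (EtCore.topIsTerminal P).from _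
  let s₀ : ((EtDesc.pullSh pr).obj (hSh U)).obj.obj (op ((EtCoh.bc sn).obj T)) :=
    ((EtDesc.pullSh pr).obj (hSh U)).obj.map (β ≫ τ₀).op (DescSh.secUp pr (hSh U) (el (𝟙 U)))
  let φ := DescSh.topPt (𝟙 (Spec (CommRingCat.of L)))
  obtain ⟨z, hz⟩ := (HTopBig.SetsBC.bijective_stalk f ξ sn pr (IsPullback.of_hasPullback f ξ)
    (𝟙 _) (hSh U)).2 (SetStalk.germ (𝟙 _) ((EtDesc.pushSh sn).obj ((EtDesc.pullSh pr).obj (hSh U)))
      T φ s₀)
  obtain ⟨p, rfl⟩ := (DescSh.pullAt_bijective ξ (𝟙 _) _ rfl ((EtDesc.pushSh f).obj (hSh U))).2 z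
  obtain ⟨V, v, a, rfl⟩ := SetStalk.exists_germ_eq (𝟙 _ ≫ ξ) ((EtDesc.pushSh f).obj (hSh U)) p
  let v' : (Scheme.pointSmallEtale ξ).fiber.obj V :=
    (Over.homMk v.left ((Over.w v).trans (Category.id_comp ξ)) :
      Over.mk ξ ⟶ (Scheme.Etale.forget S).obj V)
  refine ⟨V, v', a.down, fun ρ hρ h => ?_⟩
  have h' : (ρ ≫ pr) ≫ f = 𝟙 _ ≫ ξ := h.trans (Category.id_comp _).symm
  have key := SetIntBC.cmpAt_baseChange0Sh f ξ sn pr (IsPullback.of_hasPullback f ξ).w ρ (hSh U) hρ h'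
    (SetStalk.germ (𝟙 _ ≫ ξ) ((EtDesc.pushSh f).obj (hSh U)) V v a)
  rw [DescSh.pullAt_rfl] at hz
  rw [hz, SetPush.cmpAt_germ, SetPush.cmpAt_germ, SetStalk.germ_res] at key
  have hpt : (Scheme.pointSmallEtale ρ).fiber.map (β ≫ τ₀) (bcPt sn ρ hρ T φ) =
      bcPt pr ρ rfl U (Over.homMk (ρ ≫ σ) ((Category.assoc _ _ _).trans (congrArg (ρ ≫ ·) hσ)) :
        Over.mk (ρ ≫ pr) ⟶ (Scheme.Etale.forget X).obj U) := by
    have e : (bcPt sn ρ hρ T φ).left ≫ β.left = ρ := by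
      refine (congrArg ((bcPt sn ρ hρ T φ).left ≫ ·) ?_).trans (Over.w (bcPt sn ρ hρ T φ))
      exact (Category.comp_id _).symm.trans (MorphismProperty.Over.w β)
    refine Over.OverMorphism.ext ?_
    show (bcPt sn ρ hρ T φ).left ≫ β.left ≫ τ₀.left = _
    rw [← Category.assoc, e]
    refine pullback.hom_ext ?_ ?_
    · rw [Category.assoc]
      exact (congrArg (ρ ≫ ·) (pullback.lift_fst _ _ _)).trans (pullback.lift_fst _ _ _).symm
    · rw [Category.assoc]
      exact (congrArg (ρ ≫ ·) (pullback.lift_snd _ _ _)).trans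
        ((Category.comp_id _).trans (pullback.lift_snd _ _ _).symm)
  rw [hpt, ← DescSh.pullAt_germ pr ρ _ rfl, DescSh.pullAt_rfl] at key
  have key' := ((SetStalk.stalkPullShIso pr ρ).app (hSh U)).toEquiv.symm.injective key
  have := point_eq_of_germ_eq key'
  exact (Eq.trans ((congrArg ((Over.homMk (ρ ≫ σ) _ : Over.mk (ρ ≫ pr) ⟶
    (Scheme.Etale.forget X).obj U).left ≫ ·) (rfl : (𝟙 U : U ⟶ U).left = 𝟙 _)).trans
      (Category.comp_id _)).symm (this.trans rfl)).symm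

end Groth.Agent.FEtProperConn
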