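import Groth.Agent.FEtProperConn.Split
import Groth.Agent.LccRepLib.Global
import Groth.Agent.S2916

/-!
# The direct image of a locally split cover along a morphism with connected fibres is representable
-/

set_option autoImplicit false
set_option linter.style.haveILetI false
set_option maxHeartbeats 1000000
set_option backward.isDefEq.respectTransparency.types false
set_option backward.isDefEq.respectTransparency false

universe u

open CategoryTheory CategoryTheory.Limits AlgebraicGeometry Opposite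

noncomputable section

namespace Groth.Agent.FEtProperConn

open Groth.Agent Groth.Agent.EtaleSite
open Groth.Agent.LccRepLib (res res_comp sigma sigmaι sigmaOpen sigmaDesc sigmaι_desc pieceLift
  pieceLift_comp etale_hom_ext exists_glue_hom hom_ext_pieces RepOn)
open Groth.Agent.HTopBig.SetsBC (freeAb eta eta_res eta_injective)

variable {X S : Scheme.{u}} (f : X ⟶ S) (U : X.Etale)

/-- The sheaf containing the direct image. -/
abbrev bigF : EtCoh.Ab S := (EtCoh.push f).obj (freeAb (hSh U))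

/-- The direct image of the represented sheaf, as a subsheaf. -/
def IsRep (W : S.Etale) (s : (bigF f U).obj.obj (op W)) : Prop :=
  ∃ a : (EtCoh.bc f).obj W ⟶ U, s = eta (hSh U) (el a)

theorem res_eta {W' W : S.Etale} (k : W' ⟶ W) (a : (EtCoh.bc f).obj W ⟶ U) :
    res (bigF f U) k (eta (hSh U) (el a)) = eta (hSh U) (el ((EtCoh.bc f).map k ≫ a)) :=
  eta_res (E := hSh U) ((EtCoh.bc f).map k) (el a)

theorem isRep_stable {W' W : S.Etale} (k : W' ⟶ W) (s : (bigF f U).obj.obj (op W))
    (h : IsRep f U W s) : IsRep f U W' (res (bigF f U) k s) := by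
  obtain ⟨a, rfl⟩ := h
  exact ⟨_, res_eta f U k a⟩

theorem el_eq {W : S.Etale} {a b : (EtCoh.bc f).obj W ⟶ U}
    (h : eta (hSh U) (el a) = eta (hSh U) (el b)) : a = b :=
  congrArg ULift.down (eta_injective (E := hSh U) h)

theorem bc_map_surjective {W' W : S.Etale} (k : W' ⟶ W) (hk : Function.Surjective k.left.base) :
    Function.Surjective ((EtCoh.bc f).map k).left.base := by
  haveI : Surjective k.left := ⟨hk⟩
  exact (MorphismProperty.of_isPullback (P := @Surjective) (EtCoh.isPullback_bc_map f k).flip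
    ‹Surjective k.left›).surj

theorem isRep_local {V W : S.Etale} (k : V ⟶ W) (s : (bigF f U).obj.obj (op W))
    (hk : Function.Surjective k.left.base) (h : IsRep f U V (res (bigF f U) k s)) : IsRep f U W s := by
  obtain ⟨a', ha'⟩ := h
  let g := (EtCoh.bc f).map k
  have hg : Function.Surjective g.left.base := bc_map_surjective f k hk
  have hP : (Presieve.singleton g).IsSheafFor (hSh U).obj := by
    rw [Presieve.isSheafFor_iff_generate]
    exact (isSheaf_iff_isSheaf_of_type _ _).1 (hSh U).property _ (Covers.singleton_mem g hg)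
  rw [← Presieve.ofArrows_pUnit.{0}, Presieve.isSheafFor_arrows_iff] at hP
  obtain ⟨y, hy, -⟩ := hP (fun _ => el a') fun _ _ Z p q hpq => by
    apply eta_injective (E := hSh U)
    show eta (hSh U) ((hSh U).obj.map p.op (el a')) = eta (hSh U) ((hSh U).obj.map q.op (el a'))
    rw [← eta_res, ← eta_res, ← ha']
    show res (freeAb (hSh U)) p (res (freeAb (hSh U)) g s) = res (freeAb (hSh U)) q (res (freeAb (hSh U)) g s)
    rw [← res_comp, ← res_comp, hpq]
  refine ⟨y.down, LccRepLib.res_injective (freeAb (hSh U)) g hg ?_⟩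
  show res (bigF f U) k s = (freeAb (hSh U)).obj.map g.op (eta (hSh U) y)
  rw [eta_res, ha']
  exact congrArg _ (hy PUnit.unit).symm

section Sigma

variable {I : Type u} (V : I → S.Etale)

/-- Morphisms out of base changes of the members glue. -/
theorem exists_bc_sigma_desc (a : ∀ i, (EtCoh.bc f).obj (V i) ⟶ U) :
    ∃ a₀ : (EtCoh.bc f).obj (sigma V) ⟶ U, ∀ i, (EtCoh.bc f).map (sigmaι V i) ≫ a₀ = a i := by
  let Q := (EtCoh.bc f).obj (sigma V)
  let q : Q.left ⟶ (sigma V).left := pullback.fst (sigma V).hom f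
  let O : I → Q.left.Opens := fun i => q ⁻¹ᵁ sigmaOpen V i
  have hk : ∀ i, ∃ k : piece Q (O i) ⟶ (EtCoh.bc f).obj (V i),
      k ≫ (EtCoh.bc f).map (sigmaι V i) = pieceHom Q (O i) := fun i => by
    have hr : Set.range ((O i).ι ≫ q) ⊆ Set.range (sigmaι V i).left := by
      rintro _ ⟨z, rfl⟩
      exact z.2
    let l := IsOpenImmersion.lift (sigmaι V i).left ((O i).ι ≫ q) hr
    have hl : l ≫ (sigmaι V i).left = (O i).ι ≫ q := IsOpenImmersion.lift_fac _ _ _
    refine ⟨MorphismProperty.Over.homMk (pullback.lift l ((O i).ι ≫ Q.hom) ?_)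
      (pullback.lift_snd _ _ _) trivial, etale_hom_ext (pullback.hom_ext ?_ ?_)⟩
    · rw [← MorphismProperty.Over.w (sigmaι V i), ← Category.assoc, hl, Category.assoc]
      exact (congrArg ((O i).ι ≫ ·) pullback.condition).trans (Category.assoc _ _ _).symm
    · refine (Category.assoc _ _ _).trans ((congrArg (_ ≫ ·) (EtCoh.isPullback_bc_map f (sigmaι V i)).w).trans
        ((Category.assoc _ _ _).symm.trans ((congrArg (· ≫ (sigmaι V i).left) (pullback.lift_fst _ _ _)).trans hl)))
    · exact (Category.assoc _ _ _).trans ((congrArg (_ ≫ ·) (MorphismProperty.Over.w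
        ((EtCoh.bc f).map (sigmaι V i)))).trans (pullback.lift_snd _ _ _))
  choose k hk using hk
  have hd : ∀ i j, i ≠ j → Disjoint (O i) (O j) := fun i j hij => by
    rw [disjoint_iff]
    refine le_bot_iff.mp fun w hw => ?_
    exact ((LccRepLib.disjoint_sigmaOpen V i j hij).le_bot (show q w ∈ _ from hw) : False).elim
  obtain ⟨a₀, ha₀⟩ := exists_glue_hom O hd (fun z => LccRepLib.exists_mem_sigmaOpen V (q z))
    fun i => k i ≫ a i
  refine ⟨a₀, fun i => ?_⟩
  have hmem : ∀ z, ((EtCoh.bc f).map (sigmaι V i)).left z ∈ O i := fun z => by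
    have e := congrArg (fun m => m z) (EtCoh.isPullback_bc_map f (sigmaι V i)).w
    exact ⟨_, e.symm⟩
  let l := pieceLift (O i) ((EtCoh.bc f).map (sigmaι V i)) hmem
  have hl : l ≫ k i = 𝟙 _ := by
    have e : (l ≫ k i) ≫ (EtCoh.bc f).map (sigmaι V i) = 𝟙 _ ≫ (EtCoh.bc f).map (sigmaι V i) := by
      rw [Category.assoc, hk i, Category.id_comp]
      exact pieceLift_comp _ _ _
    refine etale_hom_ext ?_
    haveI : IsOpenImmersion ((EtCoh.bc f).map (sigmaι V i)).left :=
      MorphismProperty.of_isPullback (P := @IsOpenImmersion) (EtCoh.isPullback_bc_map f (sigmaι V i)).flip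
        inferInstance
    exact (cancel_mono ((EtCoh.bc f).map (sigmaι V i)).left).1 (congrArg (fun m => m.left) e)
  calc (EtCoh.bc f).map (sigmaι V i) ≫ a₀ = l ≫ pieceHom Q (O i) ≫ a₀ := by
        rw [← pieceLift_comp (O i) _ hmem, Category.assoc]
    _ = a i := by rw [ha₀ i, ← Category.assoc, hl, Category.id_comp]

end Sigma

variable {f}

/-- A split neighbourhood gives a representing disjoint union. -/
theorem exists_rep_split [IsProper f] [Surjective f] [IsFinite U.hom]
    (hconn : ∀ (K : Type u) [Field K] [IsAlgClosed K] (ξ : Spec (CommRingCat.of K) ⟶ S),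
      ConnectedSpace ↑(pullback f ξ))
    {ι : Type u} [Finite ι] {V : S.Etale} (t : ι → ((EtCoh.bc f).obj V ⟶ U)) (ht : IsSplitFam U t) :
    ∃ a₀ : (EtCoh.bc f).obj (sigma fun _ : ι => V) ⟶ U,
      (∀ i, (EtCoh.bc f).map (sigmaι (fun _ : ι => V) i) ≫ a₀ = t i) ∧
      RepOn (bigF f U) (IsRep f U) (sigmaDesc (fun _ : ι => V) fun _ => 𝟙 V) (eta (hSh U) (el a₀)) := by
  classical
  obtain ⟨a₀, ha₀⟩ := exists_bc_sigma_desc f U (fun _ : ι => V) t
  refine ⟨a₀, ha₀, fun k s => isRep_stable f U k s, ⟨a₀, rfl⟩, fun W g s hs => ?_⟩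
  obtain ⟨a, rfl⟩ := hs
  let P := (EtCoh.bc f).obj W
  let q : P.left ⟶ W.left := pullback.fst W.hom f
  haveI : Surjective q := MorphismProperty.pullback_fst W.hom f ‹Surjective f›
  haveI : UniversallyClosed q :=
    MorphismProperty.pullback_fst (P := @UniversallyClosed) W.hom f inferInstance
  let tg : ι → (P ⟶ U) := fun i => (EtCoh.bc f).map g ≫ t i
  have htg : IsSplitFam U tg := isSplitFam_comp ht _
  let O : ι → P.left.Opens := fun i => eqOpen a (tg i)
  have hOc : ∀ i, IsClosed (O i : Set P.left) := fun i => isClosed_eqOpen _ _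
  have hOcov : ∀ p : P.left, ∃ i, p ∈ O i := fun p => by
    obtain ⟨K, _, _, x, hx⟩ := exists_geomPt p
    obtain ⟨i, hi⟩ := (htg K x).2 (x ≫ a.left)
      ((Category.assoc _ _ _).trans (congrArg (x ≫ ·) (MorphismProperty.Over.w a)))
    exact ⟨i, hx ▸ (mem_eqOpen_iff_eq a (tg i) x).2 hi.symm⟩
  have hOdis : ∀ i j p, p ∈ O i → p ∈ O j → i = j := fun i j p hi hj => by
    obtain ⟨K, _, _, x, rfl⟩ := exists_geomPt p
    exact (htg K x).1 (((mem_eqOpen_iff_eq _ _ x).1 hi).symm.trans ((mem_eqOpen_iff_eq _ _ x).1 hj))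
  have hfib : ∀ w : W.left, _root_.IsConnected (q ⁻¹' {w}) :=
    S2916.isConnected_preimage q fun K _ _ ξ => by
      let sq : IsPullback (pullback.fst q ξ ≫ pullback.snd W.hom f) (pullback.snd q ξ) f (ξ ≫ W.hom) :=
        (IsPullback.of_hasPullback q ξ).paste_horiz (IsPullback.of_hasPullback W.hom f).flip
      haveI := hconn K (ξ ≫ W.hom)
      exact sq.isoPullback.inv.surjective.connectedSpace sq.isoPullback.inv.continuous
  have hsat : ∀ i p p', q p = q p' → p ∈ O i → p' ∈ O i := fun i p p' e hp =>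
    (hfib (q p')).isPreconnected.subset_isClopen ⟨hOc i, (O i).2⟩ ⟨p, e, hp⟩ rfl
  let Wi : ι → W.left.Opens := fun i => ⟨q '' (O i : Set P.left), by
    have : q '' (O i : Set P.left) = (⋃ j : {j // j ≠ i}, q '' (O j.1 : Set P.left))ᶜ := by
      ext w
      constructor
      · rintro ⟨p, hp, rfl⟩ hw
        obtain ⟨⟨j, hj⟩, p', hp', e⟩ := Set.mem_iUnion.1 hw
        exact hj (hOdis j i p (hsat j p' p e hp') hp)
      · intro hw
        obtain ⟨p, rfl⟩ := q.surjective w
        obtain ⟨j, hj⟩ := hOcov p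
        by_cases hji : j = i
        · subst hji; exact ⟨p, hj, rfl⟩
        · exact (hw (Set.mem_iUnion.2 ⟨⟨j, hji⟩, p, hj, rfl⟩)).elim
    rw [this]
    have hcl : ∀ j : ι, IsClosed (q '' (O j : Set P.left)) := fun j => q.isClosedMap _ (hOc j)
    exact (isClosed_iUnion_of_finite fun j : {j // j ≠ i} => hcl j.1).isOpen_compl⟩
  have hWd : ∀ i j, i ≠ j → Disjoint (Wi i) (Wi j) := fun i j hij => by
    rw [disjoint_iff]
    refine le_bot_iff.mp fun w hw => ?_
    obtain ⟨⟨p, hp, hpw⟩, p', hp', hpw'⟩ := hw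
    exact (hij (hOdis i j p' (hsat i p p' (hpw.trans hpw'.symm) hp) hp')).elim
  have hWc : ∀ w : W.left, ∃ i, w ∈ Wi i := fun w => by
    obtain ⟨p, rfl⟩ := q.surjective w
    obtain ⟨i, hi⟩ := hOcov p
    exact ⟨i, p, hi, rfl⟩
  have hOW : ∀ i p, q p ∈ Wi i → p ∈ O i := fun i p hq => by
    obtain ⟨p', hp', e⟩ := hq
    exact hsat i p' p e hp'
  obtain ⟨v, hv⟩ := exists_glue_hom Wi hWd hWc fun i => pieceHom W (Wi i) ≫ g ≫ sigmaι (fun _ : ι => V) i
  refine ⟨v, ⟨hom_ext_pieces Wi hWc fun i => ?_, ?_⟩, fun v' hv' => ?_⟩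
  · rw [reassoc_of% (hv i), sigmaι_desc, Category.comp_id]
  · refine (res_eta f U v a₀).trans (congrArg (fun z => eta (hSh U) (el z)) ?_)
    refine hom_ext_pieces (fun i => q ⁻¹ᵁ Wi i) (fun p => hWc (q p)) fun i => ?_
    let O' := q ⁻¹ᵁ Wi i
    let l : piece P O' ⟶ (EtCoh.bc f).obj (piece W (Wi i)) :=
      MorphismProperty.Over.homMk (pullback.lift (q ∣_ Wi i) (O'.ι ≫ P.hom) (by
        show (q ∣_ Wi i) ≫ (Wi i).ι ≫ W.hom = (O'.ι ≫ P.hom) ≫ f
        rw [← Category.assoc, morphismRestrict_ι, Category.assoc, Category.assoc]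
        exact congrArg (O'.ι ≫ ·) pullback.condition)) (pullback.lift_snd _ _ _) trivial
    have hl : l ≫ (EtCoh.bc f).map (pieceHom W (Wi i)) = pieceHom P O' := by
      refine etale_hom_ext (pullback.hom_ext ?_ ?_)
      · refine (Category.assoc _ _ _).trans ((congrArg (_ ≫ ·) (EtCoh.isPullback_bc_map f (pieceHom W (Wi i))).w).trans ?_)
        exact (Category.assoc _ _ _).symm.trans ((congrArg (· ≫ (Wi i).ι) (pullback.lift_fst _ _ _)).trans
          (morphismRestrict_ι _ _))
      · exact (Category.assoc _ _ _).trans ((congrArg (_ ≫ ·) (MorphismProperty.Over.w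
          ((EtCoh.bc f).map (pieceHom W (Wi i))))).trans (pullback.lift_snd _ _ _))
    rw [← hl, Category.assoc, ← Functor.map_comp_assoc, hv i, Functor.map_comp, Functor.map_comp,
      Category.assoc, Category.assoc, ha₀ i, ← Category.assoc, hl]
    refine etale_hom_ext ?_
    exact (eq_on_eqOpen a (tg i) O'.ι fun z => hOW i _ z.2).symm
  · -- uniqueness
    obtain ⟨hv'g, hv'a⟩ := hv'
    have hva : (EtCoh.bc f).map v' ≫ a₀ = a := el_eq f U ((res_eta f U v' a₀).symm.trans hv'a)
    let W' : ι → W.left.Opens := fun i => v'.left ⁻¹ᵁ sigmaOpen (fun _ : ι => V) i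
    have hk : ∀ i, pieceHom W (W' i) ≫ v' = pieceHom W (W' i) ≫ g ≫ sigmaι (fun _ : ι => V) i := by
      intro i
      obtain ⟨k, hk⟩ := LccRepLib.exists_lift_piece (fun _ : ι => V) v' (W' i) i fun w hw => hw
      have : k = pieceHom W (W' i) ≫ g := by
        have e := congrArg (· ≫ sigmaDesc (fun _ : ι => V) fun _ => 𝟙 V) hk
        simp only [Category.assoc, sigmaι_desc, Category.comp_id] at e
        rw [e, hv'g]
      rw [← hk, this, Category.assoc]
    have hsub : ∀ i w, w ∈ W' i → w ∈ Wi i := fun i w hw => by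
      obtain ⟨⟨w', hw'⟩, rfl⟩ : ∃ w' : W' i, (W' i).ι w' = w := ⟨⟨w, hw⟩, rfl⟩
      let Q := (EtCoh.bc f).obj (piece W (W' i))
      haveI : Surjective (pullback.fst (piece W (W' i)).hom f) :=
        MorphismProperty.pullback_fst _ f ‹Surjective f›
      obtain ⟨z, hz⟩ := (pullback.fst (piece W (W' i)).hom f).surjective ⟨w', hw'⟩
      let m := (EtCoh.bc f).map (pieceHom W (W' i))
      have e : m ≫ a = m ≫ tg i := by
        rw [← hva, ← Functor.map_comp_assoc, hk i, Functor.map_comp, Functor.map_comp,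
          Category.assoc, Category.assoc, ha₀ i]
      obtain ⟨K, _, _, x, rfl⟩ := exists_geomPt z
      refine ⟨m.left (x default), ?_, ?_⟩
      · show (x ≫ m.left) default ∈ eqOpen a (tg i)
        refine (mem_eqOpen_iff_eq a (tg i) (x ≫ m.left)).2 ?_
        rw [Category.assoc, Category.assoc]
        exact congrArg (x ≫ ·) (congrArg (fun r => r.left) e)
      · exact (congrArg (fun r => r (x default))
          (EtCoh.isPullback_bc_map f (pieceHom W (W' i))).w).trans (congrArg (W' i).ι hz)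
    refine hom_ext_pieces W' (fun w => LccRepLib.exists_mem_sigmaOpen _ (v'.left w)) fun i => ?_
    rw [hk i, ← pieceLift_comp (Wi i) (pieceHom W (W' i)) (fun z => hsub i _ z.2), Category.assoc,
      Category.assoc, hv i]

end Groth.Agent.FEtProperConn
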