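import Groth.Agent.FEtProperConn.LiftSection
import Groth.Agent.FEtCat.Basic
import Groth.Agent.LccRepLib.Local
import Groth.Prelude.Def_Pi1

/-!
# Covers split on the geometric fibres split near them
-/

set_option autoImplicit false
set_option linter.style.haveILetI false
set_option maxHeartbeats 1000000
set_option backward.isDefEq.respectTransparency.types false
set_option backward.isDefEq.respectTransparency false

universe u

open CategoryTheory CategoryTheory.Limits AlgebraicGeometry Opposite

noncomputable section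

namespace Groth.Agent.FEtProperConn

open Groth.Agent Groth.Agent.EtaleSite

variable {X S : Scheme.{u}} (f : X ⟶ S)

/-- A finite family of sections over a neighbourhood trivialises `U` at every geometric point. -/
def IsSplitFam (U : X.Etale) {ι : Type u} {W : X.Etale} (t : ι → (W ⟶ U)) : Prop :=
  ∀ (Ω : Type u) [Field Ω] [IsAlgClosed Ω] (x : Spec (CommRingCat.of Ω) ⟶ W.left),
    Function.Injective (fun i => x ≫ (t i).left) ∧
      ∀ z : Spec (CommRingCat.of Ω) ⟶ U.left, z ≫ U.hom = x ≫ W.hom → ∃ i, x ≫ (t i).left = z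

theorem isSplitFam_comp {U : X.Etale} {ι : Type u} {W W' : X.Etale} {t : ι → (W ⟶ U)}
    (h : IsSplitFam U t) (k : W' ⟶ W) : IsSplitFam U fun i => k ≫ t i := by
  intro Ω _ _ x
  obtain ⟨hi, hs⟩ := h Ω (x ≫ k.left)
  refine ⟨fun i j e => hi ?_, fun z hz => ?_⟩
  · exact (Category.assoc _ _ _).trans (e.trans (Category.assoc _ _ _).symm)
  · obtain ⟨i, hi⟩ := hs z (hz.trans ((congrArg (x ≫ ·) (MorphismProperty.Over.w k).symm).trans
      (Category.assoc _ _ _).symm))
    exact ⟨i, (Category.assoc _ _ _).symm.trans hi⟩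

section Eq

variable {U W : X.Etale} (a b : W ⟶ U)

/-- The map comparing two morphisms. -/
def pairMap : W.left ⟶ pullback U.hom U.hom :=
  pullback.lift a.left b.left ((MorphismProperty.Over.w a).trans (MorphismProperty.Over.w b).symm)

/-- The locus where two morphisms agree. -/
def eqOpen : W.left.Opens :=
  haveI : Etale U.hom := U.prop
  pairMap a b ⁻¹ᵁ (pullback.diagonal U.hom).opensRange

theorem mem_eqOpen_iff_eq {Ω : Type u} [Field Ω] (x : Spec (CommRingCat.of Ω) ⟶ W.left) :
    x (default : Spec (CommRingCat.of Ω)) ∈ eqOpen a b ↔ x ≫ a.left = x ≫ b.left := by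
  haveI : Etale U.hom := U.prop
  constructor
  · intro h
    have hr : Set.range (x ≫ pairMap a b) ⊆ Set.range (pullback.diagonal U.hom) := by
      rintro _ ⟨o, rfl⟩
      rw [Subsingleton.elim o default]
      exact h
    have e := IsOpenImmersion.lift_fac (pullback.diagonal U.hom) (x ≫ pairMap a b) hr
    have e₁ := congrArg (· ≫ pullback.fst U.hom U.hom) e
    have e₂ := congrArg (· ≫ pullback.snd U.hom U.hom) e
    simp only [pairMap, Category.assoc, pullback.diagonal_fst, pullback.diagonal_snd, Category.comp_id,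
      pullback.lift_fst, pullback.lift_snd] at e₁ e₂
    exact e₁.symm.trans e₂
  · intro h
    refine ⟨(x ≫ a.left) default, ?_⟩
    show _ = pairMap a b (x default)
    refine ((Scheme.Hom.comp_apply _ _ _).symm.trans ?_).trans (Scheme.Hom.comp_apply _ _ _)
    refine congrArg (fun k : Spec (CommRingCat.of Ω) ⟶ pullback U.hom U.hom => k default) ?_
    apply pullback.hom_ext <;> simp [pairMap, h]

theorem eq_on_eqOpen {T : Scheme.{u}} (k : T ⟶ W.left) (hk : ∀ z, k z ∈ eqOpen a b) :
    k ≫ a.left = k ≫ b.left := by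
  haveI : Etale U.hom := U.prop
  have hr : Set.range (k ≫ pairMap a b) ⊆ Set.range (pullback.diagonal U.hom) := by
    rintro _ ⟨z, rfl⟩
    exact hk z
  have e := IsOpenImmersion.lift_fac (pullback.diagonal U.hom) (k ≫ pairMap a b) hr
  have e₁ := congrArg (· ≫ pullback.fst U.hom U.hom) e
  have e₂ := congrArg (· ≫ pullback.snd U.hom U.hom) e
  simp only [pairMap, Category.assoc, pullback.diagonal_fst, pullback.diagonal_snd, Category.comp_id,
      pullback.lift_fst, pullback.lift_snd] at e₁ e₂
  exact e₁.symm.trans e₂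

theorem isClosed_eqOpen [IsSeparated U.hom] : IsClosed (eqOpen a b : Set W.left) :=
  haveI : Etale U.hom := U.prop
  ((pullback.diagonal U.hom).isClosedEmbedding.isClosed_range).preimage (pairMap a b).continuous

end Eq

/-- A geometric point over a point. -/
theorem exists_geomPt {T : Scheme.{u}} (t : T) :
    ∃ (K : Type u) (_ : Field K) (_ : IsAlgClosed K) (x : Spec (CommRingCat.of K) ⟶ T),
      x (default : Spec (CommRingCat.of K)) = t := by
  let k := T.residueField t
  refine ⟨AlgebraicClosure k, inferInstance, inferInstance,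
    Spec.map (CommRingCat.ofHom (algebraMap k (AlgebraicClosure k))) ≫ T.fromSpecResidueField t, ?_⟩
  exact Scheme.fromSpecResidueField_apply t _

section Good

variable {U : X.Etale} [IsFinite U.hom] {ι : Type u} [Finite ι] {W : X.Etale} (t : ι → (W ⟶ U))

/-- The section of the base change given by a member of the family. -/
def secMap (i : ι) : W.left ⟶ pullback U.hom W.hom :=
  pullback.lift (t i).left (𝟙 _) ((MorphismProperty.Over.w (t i)).trans (Category.id_comp _).symm)

theorem isOpenImmersion_secMap (i : ι) : IsOpenImmersion (secMap t i) := by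
  haveI : Etale U.hom := U.prop
  have h : secMap t i ≫ pullback.snd U.hom W.hom = 𝟙 _ := pullback.lift_snd _ _ _
  haveI : Etale (pullback.snd U.hom W.hom) := MorphismProperty.pullback_snd _ _ U.prop
  haveI : Etale (secMap t i ≫ pullback.snd U.hom W.hom) := h ▸ inferInstance
  haveI : Etale (secMap t i) :=
    MorphismProperty.of_postcomp (W := @Etale) (W' := @Etale) _ (pullback.snd U.hom W.hom)
      ‹Etale (pullback.snd U.hom W.hom)› ‹_›
  haveI : IsSplitMono (secMap t i) := ⟨⟨⟨_, h⟩⟩⟩
  exact IsOpenImmersion.of_flat_of_mono _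

/-- The points over which the family trivialises `U`. -/
def goodOpen : W.left.Opens where
  carrier := (⋂ p : {p : ι × ι // p.1 ≠ p.2}, (eqOpen (t p.1.1) (t p.1.2) : Set W.left)ᶜ) ∩
    (pullback.snd U.hom W.hom '' (⋃ i, Set.range (secMap t i))ᶜ)ᶜ
  is_open' := by
    refine (isOpen_iInter_of_finite fun p => (isClosed_eqOpen _ _).isOpen_compl).inter ?_
    refine ((pullback.snd U.hom W.hom).isClosedMap _ (isOpen_iUnion fun i => ?_).isClosed_compl).isOpen_compl
    haveI := isOpenImmersion_secMap t i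
    exact (secMap t i).isOpenEmbedding.isOpen_range

theorem mem_goodOpen_iff {Ω : Type u} [Field Ω] [IsAlgClosed Ω] (x : Spec (CommRingCat.of Ω) ⟶ W.left) :
    x (default : Spec (CommRingCat.of Ω)) ∈ goodOpen t ↔
      Function.Injective (fun i => x ≫ (t i).left) ∧
        ∀ z : Spec (CommRingCat.of Ω) ⟶ U.left, z ≫ U.hom = x ≫ W.hom → ∃ i, x ≫ (t i).left = z := by
  haveI : Etale U.hom := U.prop
  constructor
  · rintro ⟨h₁, h₂⟩
    refine ⟨fun i j e => ?_, fun z hz => ?_⟩
    · by_contra hij
      exact Set.mem_iInter.1 h₁ ⟨(i, j), hij⟩ ((mem_eqOpen_iff_eq _ _ x).2 e)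
    · let m : Spec (CommRingCat.of Ω) ⟶ pullback U.hom W.hom := pullback.lift z x hz
      have hm : m default ∈ ⋃ i, Set.range (secMap t i) := by
        by_contra hm
        refine h₂ ⟨m default, hm, ?_⟩
        exact (Scheme.Hom.comp_apply _ _ _).symm.trans
          (congrArg (fun k : Spec (CommRingCat.of Ω) ⟶ W.left => k default) (pullback.lift_snd _ _ _))
      obtain ⟨i, w, hw⟩ := Set.mem_iUnion.1 hm
      haveI := isOpenImmersion_secMap t i
      have hr : Set.range m ⊆ Set.range (secMap t i) := by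
        rintro _ ⟨o, rfl⟩
        rw [Subsingleton.elim o default]
        exact ⟨w, hw⟩
      have e := IsOpenImmersion.lift_fac (secMap t i) m hr
      have e₂ := congrArg (· ≫ pullback.snd U.hom W.hom) e
      have e₁ := congrArg (· ≫ pullback.fst U.hom W.hom) e
      simp only [secMap, m, Category.assoc, pullback.lift_fst, pullback.lift_snd, Category.comp_id] at e₁ e₂
      refine ⟨i, ?_⟩
      rw [← e₁]
      exact congrArg (· ≫ (t i).left) e₂.symm
  · rintro ⟨hinj, hsurj⟩
    refine ⟨Set.mem_iInter.2 fun p hp => p.2 (hinj ((mem_eqOpen_iff_eq _ _ x).1 hp)), ?_⟩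
    rintro ⟨w, hw, hwx⟩
    obtain ⟨⟨m, hm⟩, hmw⟩ := FEtCat.Count.exists_sec_apply_eq (pullback.snd U.hom W.hom) x w hwx
    obtain ⟨i, hi⟩ := hsurj (m ≫ pullback.fst U.hom W.hom) (by
      rw [Category.assoc, pullback.condition, ← Category.assoc, hm])
    refine hw (Set.mem_iUnion.2 ⟨i, x default, ?_⟩)
    rw [← hmw, ← Scheme.Hom.comp_apply]
    refine congrArg (fun k : Spec (CommRingCat.of Ω) ⟶ pullback U.hom W.hom => k default) ?_
    exact pullback.hom_ext ((Category.assoc _ _ _).trans
      ((congrArg (x ≫ ·) (pullback.lift_fst _ _ _)).trans hi))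
      ((Category.assoc _ _ _).trans ((congrArg (x ≫ ·) (pullback.lift_snd _ _ _)).trans
        ((Category.comp_id _).trans hm.symm)))

end Good

/-- Points of base changes are compatible with maps of neighbourhoods. -/
theorem bcPt_map_left {Ω : Type u} [Field Ω] [IsSepClosed Ω] {η : Spec (CommRingCat.of Ω) ⟶ S}
    (ρ : Spec (CommRingCat.of Ω) ⟶ X) (h : ρ ≫ f = η) {V V' : S.Etale} (k : V' ⟶ V)
    (v' : (Scheme.pointSmallEtale η).fiber.obj V') :
    (bcPt f ρ h V' v').left ≫ ((EtCoh.bc f).map k).left =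
      (bcPt f ρ h V ((Scheme.pointSmallEtale η).fiber.map k v')).left := by
  refine pullback.hom_ext ?_ ?_
  · refine ((Category.assoc _ _ _).trans ((congrArg (_ ≫ ·) (EtCoh.isPullback_bc_map f k).w).trans
      (Category.assoc _ _ _).symm)).trans ?_
    exact (congrArg (· ≫ k.left) (pullback.lift_fst _ _ _)).trans (pullback.lift_fst _ _ _).symm
  · refine ((Category.assoc _ _ _).trans (congrArg (_ ≫ ·) (MorphismProperty.Over.w ((EtCoh.bc f).map k)))).trans ?_
    exact (pullback.lift_snd _ _ _).trans (pullback.lift_snd _ _ _).symm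

/-- A cover split on the geometric fibres is split over an étale neighbourhood of every point. -/
theorem exists_split [IsProper f] (X' : FEt.Cat X)
    (hsplit : ∀ (K : Type u) [Field K] [IsAlgClosed K] (ξ : Spec (CommRingCat.of K) ⟶ S),
      Pi1.IsSplit ((FEt.restrict (pullback.fst f ξ)).obj X')) (s : S) :
    ∃ (ι : Type u) (_ : Finite ι) (V : S.Etale) (v : V.left)
      (t : ι → ((EtCoh.bc f).obj V ⟶ Scheme.Etale.mk X'.hom)),
      V.hom v = s ∧ IsSplitFam (Scheme.Etale.mk X'.hom) t := by
  classical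
  obtain ⟨L, _, _, ξ, hξ⟩ := exists_geomPt s
  obtain ⟨ι, hι, e, he⟩ := hsplit L ξ
  let U : X.Etale := Scheme.Etale.mk X'.hom
  haveI : IsFinite U.hom := inferInstanceAs (IsFinite X'.hom)
  let P := pullback f ξ
  let pr : P ⟶ X := pullback.fst f ξ
  let σ : ι → (P ⟶ U.left) := fun i =>
    Sigma.ι (fun _ : ι => P) i ≫ e.inv ≫ pullback.fst X'.hom pr
  have he' : ∀ i, Sigma.ι (fun _ : ι => P) i ≫ e.inv ≫ pullback.snd X'.hom pr = 𝟙 P := he
  have hσ : ∀ i, σ i ≫ U.hom = pr := fun i => by
    show (Sigma.ι (fun _ : ι => P) i ≫ e.inv ≫ pullback.fst X'.hom pr) ≫ X'.hom = pr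
    rw [Category.assoc, Category.assoc, pullback.condition]
    exact (((congrArg (Sigma.ι (fun _ : ι => P) i ≫ ·) (Category.assoc _ _ _).symm).trans
      (Category.assoc _ _ _).symm).trans (congrArg (· ≫ pr) (he' i))).trans (Category.id_comp _)
  choose Vi vi ti hti using fun i => exists_lift_section f ξ U (σ i) (hσ i)
  haveI := Fintype.ofFinite ι
  let E : ι → (Scheme.pointSmallEtale ξ).fiber.Elements := fun i => ⟨Vi i, vi i⟩
  obtain ⟨M, hM⟩ := IsCofiltered.inf_objs_exists (Finset.univ.image E)
  let k : ∀ i, M ⟶ E i := fun i => (hM (Finset.mem_image_of_mem E (Finset.mem_univ i))).some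
  let V : S.Etale := M.1
  let v : (Scheme.pointSmallEtale ξ).fiber.obj V := M.2
  let P' := (EtCoh.bc f).obj V
  let t : ι → (P' ⟶ U) := fun i => (EtCoh.bc f).map (k i).1 ≫ ti i
  -- rational points are good
  have hrat : ∀ (ρ : Spec (CommRingCat.of L) ⟶ X) (hρ : ρ ≫ f = ξ),
      (bcPt f ρ hρ V v).left (default : Spec (CommRingCat.of L)) ∈ goodOpen t := by
    intro ρ hρ
    obtain ⟨r, rfl, hr⟩ : ∃ r : Spec (CommRingCat.of L) ⟶ P, r ≫ pr = ρ ∧ r ≫ pullback.snd f ξ = 𝟙 _ :=
      ⟨pullback.lift ρ (𝟙 _) (hρ.trans (Category.id_comp _).symm), pullback.lift_fst _ _ _,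
        pullback.lift_snd _ _ _⟩
    have hti' : ∀ i, (bcPt f (r ≫ pr) hρ V v).left ≫ (t i).left = r ≫ σ i := fun i => by
      refine (Category.assoc _ _ _).symm.trans
        ((congrArg (· ≫ (ti i).left) (bcPt_map_left f _ hρ (k i).1 v)).trans ?_)
      have hk : (Scheme.pointSmallEtale ξ).fiber.map (k i).1 v = vi i := (k i).2
      rw [hk]
      exact hti i r hr hρ
    refine (mem_goodOpen_iff t _).2 ⟨fun i j hij => ?_, fun z hz => ?_⟩
    · simp only at hij
      rw [hti', hti'] at hij
      have h2 : r ≫ Sigma.ι (fun _ : ι => P) i ≫ e.inv = r ≫ Sigma.ι (fun _ : ι => P) j ≫ e.inv := by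
        refine pullback.hom_ext ?_ ?_
        · simpa [σ, Category.assoc] using hij
        · simp only [Category.assoc]
          exact (congrArg (r ≫ ·) (he' i)).trans (congrArg (r ≫ ·) (he' j)).symm
      have h3 := (cancel_mono e.inv).1 (((Category.assoc _ _ _).trans h2).trans (Category.assoc _ _ _).symm)
      by_contra hne
      exact (disjoint_opensRange_sigmaι (fun _ : ι => P) i j hne).le_bot
        (show (r ≫ Sigma.ι (fun _ : ι => P) i) default ∈ _ from
          ⟨⟨r default, rfl⟩, ⟨r default, (congrArg (fun k : Spec (CommRingCat.of L) ⟶ _ => k default) h3).symm⟩⟩)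
    · have hbc : (bcPt f (r ≫ pr) hρ V v).left ≫ P'.hom = r ≫ pr := Over.w (bcPt f (r ≫ pr) hρ V v)
      let m : Spec (CommRingCat.of L) ⟶ pullback X'.hom pr := pullback.lift z r (hz.trans hbc)
      obtain ⟨i, y, hy⟩ := (sigmaOpenCover fun _ : ι => P).exists_eq ((m ≫ e.hom) default)
      have hr' : Set.range (m ≫ e.hom) ⊆ Set.range (Sigma.ι (fun _ : ι => P) i) := by
        rintro _ ⟨o, rfl⟩
        rw [Subsingleton.elim o default]
        exact ⟨y, hy⟩
      have hl := IsOpenImmersion.lift_fac (Sigma.ι (fun _ : ι => P) i) (m ≫ e.hom) hr'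
      set l := IsOpenImmersion.lift (Sigma.ι (fun _ : ι => P) i) (m ≫ e.hom) hr'
      have hm : l ≫ Sigma.ι (fun _ : ι => P) i ≫ e.inv = m := by
        refine (Category.assoc _ _ _).symm.trans ((congrArg (· ≫ e.inv) hl).trans ?_)
        exact (Category.assoc _ _ _).trans ((congrArg (m ≫ ·) e.hom_inv_id).trans (Category.comp_id m))
      have hlr : l = r := by
        have h4 := congrArg (· ≫ pullback.snd X'.hom pr) hm
        simp only [Category.assoc] at h4
        exact (Category.comp_id _).symm.trans ((congrArg (l ≫ ·) (he' i).symm).trans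
          (h4.trans (pullback.lift_snd _ _ _)))
      refine ⟨i, (hti' i).trans ?_⟩
      have h5 := congrArg (· ≫ pullback.fst X'.hom pr) hm
      simp only [Category.assoc] at h5
      rw [← hlr]
      exact h5.trans (pullback.lift_fst _ _ _)
  -- shrink
  let q : P'.left ⟶ V.left := pullback.fst V.hom f
  let O' : V.left.Opens := ⟨(q '' (goodOpen t : Set P'.left)ᶜ)ᶜ,
    ((pullback.fst V.hom f).isClosedMap _ (goodOpen t).2.isClosed_compl).isOpen_compl⟩
  have hv : v.left (default : Spec (CommRingCat.of L)) ∈ O' := by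
    rintro ⟨x, hx, hxv⟩
    exact hx (HTopBig.SetsBC.mem_of_rational f ξ v (goodOpen t).2 hrat x hxv)
  refine ⟨ι, hι, piece V O', ⟨v.left (default : Spec (CommRingCat.of L)), hv⟩, fun i => (EtCoh.bc f).map (pieceHom V O') ≫ t i,
    ?_, ?_⟩
  · show (O'.ι ≫ V.hom) ⟨v.left (default : Spec (CommRingCat.of L)), hv⟩ = s
    rw [← hξ]
    exact congrArg (fun k : Spec (CommRingCat.of L) ⟶ S => k default) (Over.w v)
  · intro Ω _ _ x
    have hx : (x ≫ ((EtCoh.bc f).map (pieceHom V O')).left) default ∈ goodOpen t := by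
      by_contra hz
      have e' := congrArg (fun k => k (x default)) (EtCoh.isPullback_bc_map f (pieceHom V O')).w
      exact ((pullback.fst (piece V O').hom f : ((EtCoh.bc f).obj (piece V O')).left ⟶ O') (x default)).2
        ⟨_, hz, e'⟩
    obtain ⟨hi, hs⟩ := (mem_goodOpen_iff t _).1 hx
    refine ⟨fun i j hij => hi ((Category.assoc _ _ _).trans (hij.trans (Category.assoc _ _ _).symm)),
      fun z hz => ?_⟩
    obtain ⟨i, hi'⟩ := hs z (hz.trans ((congrArg (x ≫ ·)
      (MorphismProperty.Over.w ((EtCoh.bc f).map (pieceHom V O'))).symm).trans (Category.assoc _ _ _).symm))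
    exact ⟨i, (Category.assoc _ _ _).symm.trans hi'⟩

end Groth.Agent.FEtProperConn
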