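import Groth.Agent.FEtProperConn.LiftSection
import Groth.Agent.AlgSpCov.Instances
import Groth.Prelude.Def_Pi1X
import Mathlib.AlgebraicGeometry.Normalization
import Mathlib.AlgebraicGeometry.Morphisms.FlatDescent
import Mathlib.AlgebraicGeometry.Morphisms.IsIso
import Mathlib.AlgebraicGeometry.Limits

/-!
# The Stein factorisation is étale at a component met by an extended section
-/

set_option autoImplicit false
set_option linter.style.haveILetI false
set_option maxHeartbeats 1000000
set_option backward.isDefEq.respectTransparency.types false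
set_option backward.isDefEq.respectTransparency false

universe u

open CategoryTheory CategoryTheory.Limits AlgebraicGeometry Opposite

noncomputable section

namespace Groth.Agent.FEtProperConn

open Groth.Agent Groth.Agent.EtaleSite

/-- Without new functions on the total space the normalisation is trivial. -/
theorem isIso_fromNormalization {X S : Scheme.{u}} (f : X ⟶ S) [QuasiCompact f] [QuasiSeparated f]
    (hO : ∀ U : S.Opens, Function.Bijective (f.app U).hom) : IsIso f.fromNormalization := by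
  rw [← MorphismProperty.isomorphisms.iff, IsZariskiLocalAtTarget.iff_of_iSup_eq_top
    (P := MorphismProperty.isomorphisms Scheme.{u}) _ (iSup_affineOpens_eq_top S)]
  intro U
  haveI : IsAffine (U.1 : Scheme.{u}) := U.2
  rw [HasAffineProperty.iff_of_isAffine (P := MorphismProperty.isomorphisms Scheme.{u})]
  refine ⟨U.2.preimage f.fromNormalization, ?_⟩
  rw [morphismRestrict_appTop]
  haveI : IsIso (f.fromNormalization.app U.1) := by
    rw [f.fromNormalization_app U.2]
    letI := (f.app U.1).hom.toAlgebra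
    haveI : IsIso (CommRingCat.ofHom (algebraMap Γ(S, U.1) (integralClosure Γ(S, U.1) Γ(X, f ⁻¹ᵁ U.1)))) :=
      (ConcreteCategory.isIso_iff_bijective _).2
        ⟨fun a b h => (hO U.1).1 (congrArg Subtype.val h),
          fun z => ((hO U.1).2 z.1).imp fun a ha => Subtype.ext ha⟩
    infer_instance
  haveI : ∀ V : S.Opens, V = U.1 → IsIso (f.fromNormalization.app V) := fun V e => by subst e; infer_instance
  haveI := this (U.1.ι ''ᵁ ⊤) U.1.ι_image_top
  infer_instance

/-- The étale locus is étale over the base. -/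
theorem etale_etaleLocus {X Y : Scheme.{u}} (g : X ⟶ Y) : Etale ((Pi1X.etaleLocus g).ι ≫ g) := by
  let E := Pi1X.etaleLocus g
  let J := {V : X.Opens // Etale (V.ι ≫ g)}
  refine (IsZariskiLocalAtSource.iff_of_iSup_eq_top (P := @Etale) (fun V : J => E.ι ⁻¹ᵁ V.1) ?_).2 fun V => ?_
  · refine top_le_iff.mp fun z _ => ?_
    obtain ⟨V, hV, hz⟩ := TopologicalSpace.Opens.mem_sSup.1
      (show E.ι z ∈ sSup {V : X.Opens | Etale (V.ι ≫ g)} from z.2)
    exact TopologicalSpace.Opens.mem_iSup.2 ⟨⟨V, hV⟩, hz⟩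
  · haveI := V.2
    have h : (E.ι ⁻¹ᵁ V.1).ι ≫ E.ι ≫ g = (E.ι ∣_ V.1) ≫ V.1.ι ≫ g := by
      rw [← Category.assoc, ← morphismRestrict_ι, Category.assoc]
    rw [h]
    infer_instance

theorem mem_etaleLocus {X Y : Scheme.{u}} (g : X ⟶ Y) {V : X.Opens} (hV : Etale (V.ι ≫ g)) {x : X}
    (hx : x ∈ V) : x ∈ Pi1X.etaleLocus g :=
  (le_sSup (show V ∈ {V : X.Opens | Etale (V.ι ≫ g)} from hV)) hx

variable {X X' S : Scheme.{u}} (f : X ⟶ S) (g : X' ⟶ X)

/-- A section over a geometric fibre with values in the étale locus makes the Stein factorisation étale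
at its image, with trivial comparison there. -/
theorem exists_open_of_section [IsProper f] (hO : ∀ U : S.Opens, Function.Bijective (f.app U).hom)
    [IsProper g] (c : X' ⟶ pullback f (g ≫ f).fromNormalization)
    (hc1 : c ≫ pullback.fst f (g ≫ f).fromNormalization = g)
    (hc2 : c ≫ pullback.snd f (g ≫ f).fromNormalization = (g ≫ f).toNormalization)
    {L : Type u} [Field L] [IsAlgClosed L] (ξ : Spec (CommRingCat.of L) ⟶ S)
    (σ : pullback f ξ ⟶ (Pi1X.etaleLocus g : Scheme.{u}))
    (hσ : σ ≫ (Pi1X.etaleLocus g).ι ≫ g = pullback.fst f ξ)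
    (ρ : Spec (CommRingCat.of L) ⟶ pullback f ξ) (hρ : ρ ≫ pullback.snd f ξ = 𝟙 _)
    (s' : ↥((g ≫ f).normalization))
    (hs : (g ≫ f).toNormalization ((Pi1X.etaleLocus g).ι ((ρ ≫ σ) default)) = s') :
    ∃ U' : ((g ≫ f).normalization).Opens, s' ∈ U' ∧ Etale (U'.ι ≫ (g ≫ f).fromNormalization) ∧
      IsIso (c ∣_ ((pullback.snd f (g ≫ f).fromNormalization) ⁻¹ᵁ U')) := by
  let E := Pi1X.etaleLocus g
  haveI : Etale (E.ι ≫ g) := etale_etaleLocus g
  obtain ⟨V, v, a, ha⟩ := exists_lift_section f ξ (Scheme.Etale.mk (E.ι ≫ g)) σ hσ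
  let h := V.hom
  haveI : Etale h := V.prop
  let q := g ≫ f
  let N := q.normalization
  let τ : X' ⟶ N := q.toNormalization
  -- notation over `V`
  let P := pullback f h
  let fX : P ⟶ X := pullback.fst f h
  let fV : P ⟶ V.left := pullback.snd f h
  let a' : P ⟶ (E : Scheme.{u}) := (pullbackSymmetry f h).hom ≫ a.left
  have ha' : a' ≫ E.ι ≫ g = fX := by
    refine (Category.assoc _ _ _).trans ((congrArg (_ ≫ ·) (MorphismProperty.Over.w a)).trans ?_)
    exact pullbackSymmetry_hom_comp_snd f h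
  let XN := pullback q h
  let pX : XN ⟶ X' := pullback.fst q h
  let pV : XN ⟶ V.left := pullback.snd q h
  let mg : XN ⟶ P := pullback.lift (pX ≫ g) pV ((Category.assoc _ _ _).trans pullback.condition)
  let s : P ⟶ XN := pullback.lift (a' ≫ E.ι) fV (by
    show (a' ≫ E.ι) ≫ g ≫ f = fV ≫ h
    rw [Category.assoc, reassoc_of% ha']
    exact pullback.condition)
  have hsg : s ≫ mg = 𝟙 P := by
    refine pullback.hom_ext ?_ ?_
    · rw [Category.assoc, pullback.lift_fst, ← Category.assoc, pullback.lift_fst, Category.assoc,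
        Category.id_comp]
      exact ha'
    · rw [Category.assoc, pullback.lift_snd, pullback.lift_snd, Category.id_comp]
  have hcart : IsPullback pX mg g fX := by
    refine IsPullback.of_bot ?_ ?_ (IsPullback.of_hasPullback f h)
    · rw [show mg ≫ pullback.snd f h = pV from pullback.lift_snd _ _ _]
      exact IsPullback.of_hasPullback q h
    · exact (pullback.lift_fst _ _ _).symm
  have hE : IsPullback (pX ∣_ E) ((pX ⁻¹ᵁ E).ι ≫ mg) (E.ι ≫ g) fX :=
    (isPullback_morphismRestrict pX E).paste_vert hcart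
  haveI : Etale ((pX ⁻¹ᵁ E).ι ≫ mg) := MorphismProperty.of_isPullback hE ‹Etale (E.ι ≫ g)›
  have hsE : Set.range s ⊆ Set.range (pX ⁻¹ᵁ E).ι := by
    rw [Scheme.Opens.range_ι]
    rintro _ ⟨p, rfl⟩
    have e : pX (s p) = E.ι (a' p) := by
      rw [← Scheme.Hom.comp_apply, ← Scheme.Hom.comp_apply]
      exact congrArg (fun k : P ⟶ X' => k p) (pullback.lift_fst _ _ _)
    show pX (s p) ∈ E
    rw [e]
    exact (a' p).2
  let s₀ := IsOpenImmersion.lift (pX ⁻¹ᵁ E).ι s hsE
  have hs₀ : s₀ ≫ (pX ⁻¹ᵁ E).ι = s := IsOpenImmersion.lift_fac _ _ _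
  have hs₀' : s₀ ≫ (pX ⁻¹ᵁ E).ι ≫ mg = 𝟙 P := by rw [reassoc_of% hs₀, hsg]
  haveI : Etale (s₀ ≫ (pX ⁻¹ᵁ E).ι ≫ mg) := hs₀' ▸ inferInstance
  haveI : Etale s₀ := MorphismProperty.of_postcomp (W := @Etale) (W' := @Etale) _ ((pX ⁻¹ᵁ E).ι ≫ mg)
    ‹Etale ((pX ⁻¹ᵁ E).ι ≫ mg)› ‹_›
  haveI : IsSplitMono s₀ := ⟨⟨⟨_, hs₀'⟩⟩⟩
  haveI : IsOpenImmersion s₀ := IsOpenImmersion.of_flat_of_mono _
  haveI : IsOpenImmersion s := hs₀ ▸ inferInstance
  haveI : IsProper pV := MorphismProperty.pullback_snd (P := @IsProper) q h inferInstance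
  haveI : IsSeparated mg := by
    haveI : IsSeparated (mg ≫ fV) := by
      rw [show mg ≫ fV = pV from pullback.lift_snd _ _ _]; infer_instance
    exact IsSeparated.of_comp mg fV
  haveI : IsClosedImmersion s := by
    haveI : IsClosedImmersion (s ≫ mg) := hsg ▸ inferInstance
    exact IsClosedImmersion.of_comp s mg
  let R : XN.Opens := ⟨(Set.range s)ᶜ, s.isClosedEmbedding.isClosed_range.isOpen_compl⟩
  obtain ⟨hcof⟩ := nonempty_isColimit_binaryCofanMk_of_isCompl s R.ι (by
    rw [Scheme.Opens.opensRange_ι]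
    refine IsCompl.of_eq (SetLike.coe_injective ?_) (SetLike.coe_injective ?_) <;> simp [R])
  -- the normalisation over `V`
  let τV : XN ⟶ pV.normalization := pV.toNormalization
  let fromV : pV.normalization ⟶ V.left := pV.fromNormalization
  haveI : IsIso f.fromNormalization := isIso_fromNormalization f hO
  haveI : IsIso fV.fromNormalization := by
    haveI : IsIso (pullback.snd f.fromNormalization h) := inferInstance
    rw [← Scheme.Hom.normalizationPullback_snd f h]
    infer_instance
  have hfac : fV = (s ≫ τV) ≫ fromV := by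
    rw [Category.assoc, Scheme.Hom.toNormalization_fromNormalization]
    exact (pullback.lift_snd _ _ _).symm
  let σN : V.left ⟶ pV.normalization :=
    inv fV.fromNormalization ≫ fV.normalizationDesc (s ≫ τV) fromV hfac
  have hfσ : fV ≫ σN = s ≫ τV := by
    show fV ≫ inv fV.fromNormalization ≫ _ = _
    have e : fV ≫ inv fV.fromNormalization = fV.toNormalization := by
      rw [IsIso.comp_inv_eq, Scheme.Hom.toNormalization_fromNormalization]
    rw [reassoc_of% e, Scheme.Hom.toNormalization_normalizationDesc]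
  have hσfrom : σN ≫ fromV = 𝟙 V.left := by
    simp only [σN, Category.assoc, Scheme.Hom.normalizationDesc_comp, IsIso.inv_hom_id]
  -- the clopen piece of the normalisation
  let fold : V.left ⨿ V.left ⟶ V.left := coprod.desc (𝟙 _) (𝟙 _)
  haveI : IsFinite fold := inferInstance
  let c₀ : XN ⟶ V.left ⨿ V.left :=
    BinaryCofan.IsColimit.desc hcof (fV ≫ coprod.inl) (R.ι ≫ pV ≫ coprod.inr)
  have hc₀l : s ≫ c₀ = fV ≫ coprod.inl := BinaryCofan.IsColimit.inl_desc hcof _ _
  have hc₀r : R.ι ≫ c₀ = R.ι ≫ pV ≫ coprod.inr := BinaryCofan.IsColimit.inr_desc hcof _ _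
  have hc₀f : pV = c₀ ≫ fold := by
    apply BinaryCofan.IsColimit.hom_ext hcof
    · show s ≫ pV = s ≫ c₀ ≫ fold
      rw [reassoc_of% hc₀l, coprod.inl_desc, Category.comp_id]
      exact pullback.lift_snd _ _ _
    · show R.ι ≫ pV = R.ι ≫ c₀ ≫ fold
      rw [reassoc_of% hc₀r, coprod.inr_desc, Category.comp_id]
  let u : pV.normalization ⟶ V.left ⨿ V.left := pV.normalizationDesc c₀ fold hc₀f
  have hu : τV ≫ u = c₀ := pV.toNormalization_normalizationDesc c₀ fold hc₀f
  let inl' : V.left ⟶ V.left ⨿ V.left := coprod.inl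
  let inr' : V.left ⟶ V.left ⨿ V.left := coprod.inr
  have hcompl : IsCompl inl'.opensRange inr'.opensRange := (isCompl_opensRange_inl_inr V.left V.left)
  let O : pV.normalization.Opens := u ⁻¹ᵁ inl'.opensRange
  let O' : pV.normalization.Opens := u ⁻¹ᵁ inr'.opensRange
  have hOO : IsCompl O O' :=
    ⟨by
      rw [disjoint_iff]
      refine le_bot_iff.mp fun z hz => ?_
      exact (hcompl.disjoint.le_bot (show u z ∈ inl'.opensRange ⊓ inr'.opensRange from hz) : False).elim,
    by
      rw [codisjoint_iff]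
      refine top_le_iff.mp fun z _ => ?_
      have := hcompl.codisjoint.top_le (show u z ∈ ⊤ from trivial)
      exact this⟩
  have hpre : τV ⁻¹ᵁ O = s.opensRange := by
    ext z
    constructor
    · intro hz
      by_contra hn
      obtain ⟨r, rfl⟩ : ∃ r : R, R.ι r = z := ⟨⟨z, hn⟩, rfl⟩
      have e : u (τV (R.ι r)) = inr' ((R.ι ≫ pV) r) := by
        rw [← Scheme.Hom.comp_apply, hu, ← Scheme.Hom.comp_apply, hc₀r, ← Scheme.Hom.comp_apply]
        simp [inr']
      exact hcompl.disjoint.le_bot (show u (τV (R.ι r)) ∈ inl'.opensRange ⊓ inr'.opensRange from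
        ⟨hz, ⟨_, e.symm⟩⟩)
    · rintro ⟨p, rfl⟩
      refine ⟨fV p, ?_⟩
      show inl' (fV p) = u (τV (s p))
      rw [← Scheme.Hom.comp_apply, ← Scheme.Hom.comp_apply, ← Scheme.Hom.comp_apply, hu, hc₀l]
  obtain ⟨hcofN⟩ := nonempty_isColimit_binaryCofanMk_of_isCompl O.ι O'.ι (by
    rw [Scheme.Opens.opensRange_ι, Scheme.Opens.opensRange_ι]; exact hOO)
  let w : pV.normalization ⟶ pV.normalization :=
    BinaryCofan.IsColimit.desc hcofN (O.ι ≫ fromV ≫ σN) O'.ι
  have hwl : O.ι ≫ w = O.ι ≫ fromV ≫ σN := BinaryCofan.IsColimit.inl_desc hcofN _ _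
  have hwr : O'.ι ≫ w = O'.ι := BinaryCofan.IsColimit.inr_desc hcofN _ _
  have hw : w = 𝟙 _ := by
    refine Scheme.Hom.normalization.hom_ext pV w (𝟙 _) fromV ?_ ?_ (Category.id_comp _)
    · rw [Category.comp_id]
      apply BinaryCofan.IsColimit.hom_ext hcof
      · show s ≫ τV ≫ w = s ≫ τV
        have hr : Set.range (s ≫ τV) ⊆ Set.range O.ι := by
          rw [Scheme.Opens.range_ι]
          rintro _ ⟨p, rfl⟩
          exact (hpre.ge (show s p ∈ s.opensRange from ⟨p, rfl⟩))
        have e := IsOpenImmersion.lift_fac O.ι (s ≫ τV) hr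
        rw [← Category.assoc, ← e, Category.assoc, hwl, reassoc_of% e, ← Category.assoc τV,
          Scheme.Hom.toNormalization_fromNormalization, reassoc_of% (show s ≫ pV = fV from
            pullback.lift_snd _ _ _), hfσ, e]
      · show R.ι ≫ τV ≫ w = R.ι ≫ τV
        have hr : Set.range (R.ι ≫ τV) ⊆ Set.range O'.ι := by
          rw [Scheme.Opens.range_ι]
          rintro _ ⟨r, rfl⟩
          refine ⟨(R.ι ≫ pV) r, ?_⟩
          show inr' ((R.ι ≫ pV) r) = u ((R.ι ≫ τV) r)
          rw [← Scheme.Hom.comp_apply, ← Scheme.Hom.comp_apply, Category.assoc, Category.assoc, hu, hc₀r]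
        have e := IsOpenImmersion.lift_fac O'.ι (R.ι ≫ τV) hr
        rw [← Category.assoc, ← e, Category.assoc, hwr]
    · apply BinaryCofan.IsColimit.hom_ext hcofN
      · show O.ι ≫ w ≫ fromV = O.ι ≫ fromV
        rw [reassoc_of% hwl, hσfrom, Category.comp_id]
      · show O'.ι ≫ w ≫ fromV = O'.ι ≫ fromV
        rw [reassoc_of% hwr]
  have hOσ : O.ι ≫ fromV ≫ σN = O.ι := by rw [← hwl, hw, Category.comp_id]
  haveI : Surjective fV := by
    haveI : IsProper fV := MorphismProperty.pullback_snd (P := @IsProper) f h inferInstance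
    haveI : IsProper (fV.toNormalization ≫ fV.fromNormalization) := by
      rw [Scheme.Hom.toNormalization_fromNormalization]; infer_instance
    haveI : IsProper fV.toNormalization := IsProper.of_comp fV.toNormalization fV.fromNormalization
    haveI : Surjective fV.toNormalization := ⟨by
      rw [← Set.range_eq_univ, ← (fV.toNormalization.isClosedMap.isClosed_range).closure_eq]
      exact fV.toNormalization.denseRange.closure_range⟩
    rw [← Scheme.Hom.toNormalization_fromNormalization fV]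
    infer_instance
  have hrange : ∀ x, σN x ∈ O := fun x => by
    obtain ⟨p, rfl⟩ := fV.surjective x
    rw [← Scheme.Hom.comp_apply, hfσ]
    exact hpre.ge (show s p ∈ s.opensRange from ⟨p, rfl⟩)
  let eσ : V.left ≅ (O : Scheme.{u}) :=
    { hom := IsOpenImmersion.lift O.ι σN (by
        rw [Scheme.Opens.range_ι]; rintro _ ⟨x, rfl⟩; exact hrange x)
      inv := O.ι ≫ fromV
      hom_inv_id := by rw [IsOpenImmersion.lift_fac_assoc, hσfrom]
      inv_hom_id := by
        rw [← cancel_mono O.ι, Category.assoc, IsOpenImmersion.lift_fac, Category.assoc, hOσ,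
          Category.id_comp] }
  have heσ : eσ.hom ≫ O.ι = σN := IsOpenImmersion.lift_fac _ _ _
  haveI : IsIso eσ.hom := eσ.isIso_hom
  haveI : IsOpenImmersion eσ.hom := IsOpenImmersion.of_isIso eσ.hom
  haveI : IsOpenImmersion σN := heσ ▸ IsOpenImmersion.comp eσ.hom O.ι
  have hσO : σN.opensRange = O := by
    ext z
    constructor
    · rintro ⟨x, rfl⟩; exact hrange x
    · intro hz
      refine ⟨eσ.inv ⟨z, hz⟩, ?_⟩
      rw [← Scheme.Hom.comp_apply]
      show ((O.ι ≫ fromV) ≫ σN) ⟨z, hz⟩ = z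
      rw [Category.assoc, hOσ]
      rfl
  have sq₁ : IsPullback fV s σN τV :=
    IsOpenImmersion.isPullback fV s σN τV hfσ.symm (by rw [hσO, hpre])
  -- comparison with the normalisation over `S`
  let Φ : pV.normalization ⟶ pullback q.fromNormalization h := q.normalizationPullback h
  let pN : pV.normalization ⟶ N := Φ ≫ pullback.fst q.fromNormalization h
  have hN : IsPullback pN fromV q.fromNormalization h :=
    IsPullback.of_iso (IsPullback.of_hasPullback q.fromNormalization h) (asIso Φ).symm (Iso.refl _)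
      (Iso.refl _) (Iso.refl _) (by simp [pN]) (by simp [fromV, Φ]; rfl) (by simp) (by simp)
  have hτ : IsPullback pX τV τ pN := by
    refine IsPullback.of_bot ?_ ?_ hN
    · rw [Scheme.Hom.toNormalization_fromNormalization, Scheme.Hom.toNormalization_fromNormalization]
      exact IsPullback.of_hasPullback q h
    · exact (q.toNormalization_normalizationPullback_fst h).symm
  let μ : V.left ⟶ N := σN ≫ pN
  haveI : Etale pN := MorphismProperty.of_isPullback hN.flip ‹Etale h›
  haveI : Etale μ := inferInstanceAs (Etale (σN ≫ pN))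
  have hμ : μ ≫ q.fromNormalization = h := by
    show (σN ≫ pN) ≫ q.fromNormalization = h
    rw [Category.assoc, hN.w, ← Category.assoc, hσfrom, Category.id_comp]
  have hmain : IsPullback (s ≫ pX) fV τ μ := sq₁.flip.paste_horiz hτ
  let sn := pullback.snd f q.fromNormalization
  have hr₀ : fX ≫ f = (fV ≫ μ) ≫ q.fromNormalization := by
    rw [Category.assoc, hμ]; exact pullback.condition
  let r : P ⟶ pullback f q.fromNormalization := pullback.lift fX (fV ≫ μ) hr₀
  have hr : IsPullback r fV sn μ := by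
    refine IsPullback.of_right ?_ (pullback.lift_snd _ _ _) (IsPullback.of_hasPullback f q.fromNormalization)
    rw [show r ≫ pullback.fst f q.fromNormalization = fX from pullback.lift_fst _ _ _, hμ]
    exact IsPullback.of_hasPullback f h
  have hcs : c ≫ sn = τ := hc2
  have hcr : (s ≫ pX) ≫ c = r := by
    refine pullback.hom_ext ?_ ?_
    · rw [Category.assoc, hc1, show s ≫ pX = a' ≫ E.ι from pullback.lift_fst _ _ _, Category.assoc, ha']
      exact (pullback.lift_fst _ _ _).symm
    · rw [Category.assoc, hc2]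
      exact hmain.w.trans (pullback.lift_snd _ _ _).symm
  have hcart2 : IsPullback (s ≫ pX) (𝟙 P) c r := by
    refine IsPullback.of_bot ?_ (hcr.trans (Category.id_comp r).symm) hr
    rw [Category.id_comp, hcs]
    exact hmain
  -- the open set
  let U' : N.Opens := ⟨Set.range μ, μ.isOpenMap.isOpen_range⟩
  have hμr : Set.range μ ⊆ Set.range U'.ι := by rw [Scheme.Opens.range_ι]; rfl
  let μU : V.left ⟶ (U' : Scheme.{u}) := IsOpenImmersion.lift U'.ι μ hμr
  have hμU : μU ≫ U'.ι = μ := IsOpenImmersion.lift_fac _ _ _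
  haveI : Etale (μU ≫ U'.ι) := hμU ▸ inferInstance
  haveI : Etale μU := MorphismProperty.of_postcomp (W := @Etale) (W' := @Etale) μU U'.ι inferInstance ‹_›
  haveI : Surjective μU := ⟨fun z => by
    obtain ⟨x, hx⟩ := z.2
    refine ⟨x, U'.ι.isOpenEmbedding.injective ?_⟩
    rw [← Scheme.Hom.comp_apply, hμU]
    exact hx⟩
  refine ⟨U', ?_, ?_, ?_⟩
  · rw [← hs]
    let r₀ : Spec (CommRingCat.of L) ⟶ P := pullback.lift (ρ ≫ pullback.fst f ξ) v.left (by
      rw [Category.assoc, pullback.condition, ← Category.assoc, hρ, Category.id_comp]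
      exact (Over.w v).symm)
    have hf : (ρ ≫ pullback.fst f ξ) ≫ f = ξ := by
      rw [Category.assoc, pullback.condition, ← Category.assoc, hρ, Category.id_comp]
    have e₁ : r₀ ≫ (pullbackSymmetry f h).hom = (bcPt f (ρ ≫ pullback.fst f ξ) hf V v).left := by
      refine pullback.hom_ext ?_ ?_
      · rw [Category.assoc, pullbackSymmetry_hom_comp_fst, pullback.lift_snd]
        exact (pullback.lift_fst _ _ _).symm
      · rw [Category.assoc, pullbackSymmetry_hom_comp_snd, pullback.lift_fst]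
        exact (pullback.lift_snd _ _ _).symm
    have e₂ : r₀ ≫ a' = ρ ≫ σ := by
      rw [← ha ρ hρ hf, ← e₁]
      exact (Category.assoc _ _ _).symm
    have e₃ : (r₀ ≫ fV) ≫ μ = ((ρ ≫ σ) ≫ E.ι) ≫ τ := by
      rw [Category.assoc, ← hmain.w, show s ≫ pX = a' ≫ E.ι from pullback.lift_fst _ _ _, ← e₂]
      simp only [Category.assoc]
    refine ⟨(r₀ ≫ fV) default, ?_⟩
    exact (Scheme.Hom.comp_apply _ _ _).symm.trans ((congrArg (fun k : Spec (CommRingCat.of L) ⟶ N =>
      k default) e₃).trans (by rw [Scheme.Hom.comp_apply, Scheme.Hom.comp_apply]))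
  · refine AlgSpCov.etale_of_comp_smooth μU _ ?_
    rw [← Category.assoc, hμU]
    exact hμ.symm ▸ (inferInstance : Etale h)
  · let Q := sn ⁻¹ᵁ U'
    have hrQ : Set.range r ⊆ Set.range Q.ι := by
      rw [Scheme.Opens.range_ι]
      rintro _ ⟨p, rfl⟩
      show sn (r p) ∈ U'
      rw [← Scheme.Hom.comp_apply, hr.w, Scheme.Hom.comp_apply]
      exact ⟨_, rfl⟩
    let rQ := IsOpenImmersion.lift Q.ι r hrQ
    have hrQι : rQ ≫ Q.ι = r := IsOpenImmersion.lift_fac _ _ _
    have hr' : IsPullback rQ fV (sn ∣_ U') μU := by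
      refine IsPullback.of_right ?_ ?_ (isPullback_morphismRestrict sn U').flip
      · rw [hrQι, hμU]; exact hr
      · rw [← cancel_mono U'.ι, Category.assoc, morphismRestrict_ι, reassoc_of% hrQι, Category.assoc, hμU]
        exact hr.w
    haveI : Etale rQ := MorphismProperty.of_isPullback hr'.flip ‹Etale μU›
    haveI : Surjective rQ := MorphismProperty.of_isPullback hr'.flip ‹Surjective μU›
    have hcr' : Set.range (s ≫ pX) ⊆ Set.range (c ⁻¹ᵁ Q).ι := by
      rw [Scheme.Opens.range_ι]
      rintro _ ⟨p, rfl⟩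
      show c ((s ≫ pX) p) ∈ Q
      rw [← Scheme.Hom.comp_apply, hcr, ← hrQι]
      exact (rQ p).2
    let sX := IsOpenImmersion.lift (c ⁻¹ᵁ Q).ι (s ≫ pX) hcr'
    have hsX : sX ≫ (c ⁻¹ᵁ Q).ι = s ≫ pX := IsOpenImmersion.lift_fac _ _ _
    have hsq : IsPullback sX (𝟙 P) (c ∣_ Q) rQ := by
      refine IsPullback.of_right ?_ ?_ (isPullback_morphismRestrict c Q).flip
      · rw [hsX, hrQι]; exact hcart2
      · rw [← cancel_mono Q.ι, Category.assoc, morphismRestrict_ι, reassoc_of% hsX, Category.id_comp,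
          hrQι, ← Category.assoc]
        exact hcr
    exact MorphismProperty.of_isPullback_of_descendsAlong (P := MorphismProperty.isomorphisms Scheme.{u})
      (Q := @Surjective ⊓ @Flat ⊓ @LocallyOfFinitePresentation) hsq.flip
      ⟨⟨‹Surjective rQ›, inferInstance⟩, inferInstance⟩ (inferInstanceAs (IsIso (𝟙 P)))

end Groth.Agent.FEtProperConn
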