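import Groth.Agent.FEtProperConn.SteinEtale
import Groth.Agent.FEtCat.Sigma
import Groth.Agent.S2916
import Groth.Prelude.Def_Pi1

/-!
# The component of a fibre over an étale point of the Stein factorisation
-/

set_option autoImplicit false
set_option linter.style.haveILetI false
set_option maxHeartbeats 1000000
set_option backward.isDefEq.respectTransparency.types false
set_option backward.isDefEq.respectTransparency false

universe u

open CategoryTheory CategoryTheory.Limits AlgebraicGeometry Opposite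

noncomputable section

namespace Groth.Agent.FEtProperConn

open Groth.Agent

/-- A base change of a finite étale cover of a separably closed field splits. -/
theorem isSplit_of_isPullback {K : Type u} [Field K] [IsAlgClosed K] {k : Type u} [Field k]
    (σ : Spec (CommRingCat.of K) ⟶ Spec (CommRingCat.of k))
    {T Z C : Scheme.{u}} (t : T ⟶ Spec (CommRingCat.of K)) (ζ : Z ⟶ Spec (CommRingCat.of k))
    [IsFinite ζ] [Etale ζ] (a : C ⟶ T) (b : C ⟶ Z) (hsq : IsPullback a b (t ≫ σ) ζ)
    [IsFinite a] [Etale a] :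
    ∃ (ι : Type u) (_ : Finite ι) (e : C ≅ ∐ fun _ : ι => T),
      ∀ i : ι, Sigma.ι (fun _ : ι => T) i ≫ e.inv ≫ a = 𝟙 T := by
  let ι := FEtCat.Count.Sec ζ σ
  haveI : Finite ι := FEtCat.Count.finite_sec ζ σ
  let s : ι → (T ⟶ C) := fun z => hsq.lift (𝟙 T) (t ≫ z.1) (by
    rw [Category.id_comp, Category.assoc, z.2])
  have hs : ∀ z, s z ≫ a = 𝟙 T := fun z => hsq.lift_fst _ _ _
  haveI : IsIso (Limits.Sigma.desc s) := (FEtCat.Sigma.isIso_desc_iff a s hs).2 fun Ω _ _ η => by
    let φ : Spec (CommRingCat.of Ω) ⟶ Spec (CommRingCat.of K) := η ≫ t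
    haveI : Surjective φ := ⟨fun x => ⟨default, Subsingleton.elim (α := Spec (CommRingCat.of K)) _ _⟩⟩
    haveI : Flat φ := by
      obtain ⟨ψ, hψ⟩ := Spec.map_surjective φ
      rw [← hψ, HasRingHomProperty.Spec_iff (P := @Flat)]
      algebraize [ψ.hom]
      exact inferInstanceAs (Module.Flat K Ω)
    haveI : Epi φ := Flat.epi_of_flat_of_surjective φ
    have hinj : Function.Injective fun z : ι =>
        (⟨η ≫ s z, by rw [Category.assoc, hs, Category.comp_id]⟩ : FEtCat.Count.Sec a η) := by
      intro z z' hzz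
      have h := congrArg (fun w => w.1 ≫ b) hzz
      simp only [Category.assoc, s, hsq.lift_snd] at h
      exact Subtype.ext ((cancel_epi φ).1 ((Category.assoc _ _ _).trans (h.trans (Category.assoc _ _ _).symm)))
    let e : FEtCat.Count.Sec a η ≃ FEtCat.Count.Sec ζ (φ ≫ σ) :=
      { toFun := fun w => ⟨w.1 ≫ b, by
          rw [Category.assoc, ← hsq.w, ← Category.assoc, w.2, Category.assoc]⟩
        invFun := fun w => ⟨hsq.lift η w.1 (by rw [w.2, Category.assoc]), hsq.lift_fst _ _ _⟩
        left_inv := fun w => Subtype.ext (hsq.hom_ext ((hsq.lift_fst _ _ _).trans w.2.symm)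
          (hsq.lift_snd _ _ _))
        right_inv := fun w => Subtype.ext (hsq.lift_snd _ _ _) }
    haveI := FEtCat.Count.finite_sec ζ (φ ≫ σ)
    haveI : Finite (FEtCat.Count.Sec a η) := Finite.of_equiv _ e.symm
    refine (Nat.bijective_iff_injective_and_card _).2 ⟨hinj, ?_⟩
    rw [Nat.card_congr e, FEtCat.Count.natCard_sec, FEtCat.Count.natCard_sec]
    exact congrArg _ (Subsingleton.elim (α := Spec (CommRingCat.of k)) _ _)
  refine ⟨ι, inferInstance, (asIso (Limits.Sigma.desc s)).symm, fun z => ?_⟩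
  rw [Iso.symm_inv, asIso_hom, Limits.Sigma.ι_desc_assoc, hs]

variable {X X' S : Scheme.{u}} (f : X ⟶ S) (g : X' ⟶ X)

/-- Over an étale point of the Stein factorisation with trivial comparison the component of the fibre is a
finite étale cover of the fibre, split geometrically. -/
theorem fibre_of_etale [IsProper f] [IsProper g] (c : X' ⟶ pullback f (g ≫ f).fromNormalization)
    (hc1 : c ≫ pullback.fst f (g ≫ f).fromNormalization = g)
    (hc2 : c ≫ pullback.snd f (g ≫ f).fromNormalization = (g ≫ f).toNormalization)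
    (s : S) (s' : ↥((g ≫ f).normalization)) (hs' : (g ≫ f).fromNormalization s' = s)
    (C : (pullback (g ≫ f) (S.fromSpecResidueField s)).Opens)
    (hC : ∀ x : ↥(pullback (g ≫ f) (S.fromSpecResidueField s)),
      x ∈ C ↔ (g ≫ f).toNormalization ((pullback.fst (g ≫ f) (S.fromSpecResidueField s)) x) = s')
    (m : (C : Scheme.{u}) ⟶ pullback f (S.fromSpecResidueField s))
    (hm1 : m ≫ pullback.fst f (S.fromSpecResidueField s) =
      C.ι ≫ pullback.fst (g ≫ f) (S.fromSpecResidueField s) ≫ g)
    (hm2 : m ≫ pullback.snd f (S.fromSpecResidueField s) =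
      C.ι ≫ pullback.snd (g ≫ f) (S.fromSpecResidueField s))
    (U' : ((g ≫ f).normalization).Opens) (hsU : s' ∈ U')
    (hU : Etale (U'.ι ≫ (g ≫ f).fromNormalization))
    (hciso : IsIso (c ∣_ ((pullback.snd f (g ≫ f).fromNormalization) ⁻¹ᵁ U'))) :
    (∀ x : C, pullback.fst (g ≫ f) (S.fromSpecResidueField s) x.1 ∈ Pi1X.etaleLocus g) ∧
      IsFinite m ∧ Etale m ∧
        ∃ (ι : Type u) (_ : Finite ι) (e : pullback m (pullback.fst (pullback.snd f (S.fromSpecResidueField s))
              (Spec.map (CommRingCat.ofHom (algebraMap (S.residueField s) (AlgebraicClosure (S.residueField s)))))) ≅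
            ∐ fun _ : ι => pullback (pullback.snd f (S.fromSpecResidueField s))
              (Spec.map (CommRingCat.ofHom (algebraMap (S.residueField s) (AlgebraicClosure (S.residueField s)))))),
          ∀ i, Sigma.ι (fun _ : ι => pullback (pullback.snd f (S.fromSpecResidueField s))
              (Spec.map (CommRingCat.ofHom (algebraMap (S.residueField s) (AlgebraicClosure (S.residueField s)))))) i ≫
            e.inv ≫ pullback.snd _ _ = 𝟙 _ := by
  classical
  let q := g ≫ f
  let fromN := q.fromNormalization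
  let τ := q.toNormalization
  let i := S.fromSpecResidueField s
  let sn := pullback.snd f fromN
  let Q := sn ⁻¹ᵁ U'
  let A := c ⁻¹ᵁ Q
  haveI := hciso
  let cQ : (A : Scheme.{u}) ⟶ (Q : Scheme.{u}) := c ∣_ Q
  haveI : IsIso cQ := hciso
  have hQ : IsPullback (Q.ι ≫ pullback.fst f fromN) (sn ∣_ U') f (U'.ι ≫ fromN) :=
    (isPullback_morphismRestrict sn U').flip.paste_horiz (IsPullback.of_hasPullback f fromN)
  haveI : Etale (Q.ι ≫ pullback.fst f fromN) := MorphismProperty.of_isPullback hQ.flip hU
  have hAg : A.ι ≫ g = cQ ≫ Q.ι ≫ pullback.fst f fromN := by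
    rw [← Category.assoc, morphismRestrict_ι, Category.assoc, hc1]
  have hA : Etale (A.ι ≫ g) := by rw [hAg]; infer_instance
  have hτ : ∀ x : C, τ (pullback.fst q i x.1) = s' := fun x => (hC x.1).1 x.2
  have hxA : ∀ x : C, pullback.fst q i x.1 ∈ A := fun x => by
    show sn (c (pullback.fst q i x.1)) ∈ U'
    rw [← Scheme.Hom.comp_apply c sn, hc2]
    exact (hτ x).symm ▸ hsU
  refine ⟨fun x => mem_etaleLocus g hA (hxA x), ?_⟩
  -- the point of the étale scheme over the residue field
  let Fz := pullback (U'.ι ≫ fromN) i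
  haveI : Etale (pullback.snd (U'.ι ≫ fromN) i) := MorphismProperty.pullback_snd _ _ hU
  haveI : LocallyQuasiFinite (pullback.snd (U'.ι ≫ fromN) i) := S2916.locallyQuasiFinite_of_etale _
  haveI : IsLocallyArtinian Fz := IsLocallyArtinian.of_locallyQuasiFinite (pullback.snd (U'.ι ≫ fromN) i)
  haveI : DiscreteTopology Fz := (IsLocallyArtinian.iff_isLocallyNoetherian_and_discreteTopology.1 ‹_›).2
  haveI : IsPreimmersion (pullback.fst (U'.ι ≫ fromN) i) :=
    MorphismProperty.pullback_fst (P := @IsPreimmersion) _ _ inferInstance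
  let Zo : Fz.Opens := ⟨pullback.fst (U'.ι ≫ fromN) i ⁻¹' {⟨s', hsU⟩}, isOpen_discrete _⟩
  let ζ : (Zo : Scheme.{u}) ⟶ Spec (CommRingCat.of (S.residueField s)) :=
    Zo.ι ≫ pullback.snd (U'.ι ≫ fromN) i
  haveI : Subsingleton Zo := ⟨fun a b => Subtype.ext ((pullback.fst (U'.ι ≫ fromN) i).isEmbedding.injective
    ((a.2 : _ = _).trans (b.2 : _ = _).symm))⟩
  haveI : CompactSpace Zo := inferInstance
  haveI : QuasiCompact ζ := quasiCompact_of_compactSpace ζ
  haveI : Etale ζ := inferInstanceAs (Etale (Zo.ι ≫ _))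
  haveI : LocallyQuasiFinite ζ := S2916.locallyQuasiFinite_of_etale ζ
  haveI : IsFinite ζ := IsFinite.of_locallyQuasiFinite ζ
  -- the map from the component
  have hk : Set.range (C.ι ≫ pullback.fst q i) ⊆ Set.range A.ι := by
    rw [Scheme.Opens.range_ι]
    rintro _ ⟨x, rfl⟩
    exact hxA x
  let k := IsOpenImmersion.lift A.ι (C.ι ≫ pullback.fst q i) hk
  have hkι : k ≫ A.ι = C.ι ≫ pullback.fst q i := IsOpenImmersion.lift_fac _ _ _
  have hcQ : cQ ≫ Q.ι = A.ι ≫ c := morphismRestrict_ι c Q
  have hcQU : cQ ≫ (sn ∣_ U') ≫ U'.ι = A.ι ≫ τ := by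
    rw [morphismRestrict_ι, ← Category.assoc, hcQ, Category.assoc, hc2]
  have hθw : (k ≫ cQ ≫ (sn ∣_ U')) ≫ U'.ι ≫ fromN = (C.ι ≫ pullback.snd q i) ≫ i := by
    simp only [Category.assoc]
    rw [reassoc_of% hcQU, Scheme.Hom.toNormalization_fromNormalization, reassoc_of% hkι, pullback.condition]
  let θ₀ : (C : Scheme.{u}) ⟶ Fz := pullback.lift (k ≫ cQ ≫ (sn ∣_ U')) (C.ι ≫ pullback.snd q i) hθw
  have hθr : Set.range θ₀ ⊆ Set.range Zo.ι := by
    rw [Scheme.Opens.range_ι]
    rintro _ ⟨x, rfl⟩
    refine U'.ι.isOpenEmbedding.injective ?_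
    have e : θ₀ ≫ pullback.fst (U'.ι ≫ fromN) i ≫ U'.ι = C.ι ≫ pullback.fst q i ≫ τ := by
      rw [pullback.lift_fst_assoc, Category.assoc, Category.assoc, hcQU, reassoc_of% hkι]
    have e' := congrArg (fun r : (C : Scheme.{u}) ⟶ q.normalization => r x) e
    simp only [Scheme.Hom.comp_apply] at e'
    exact e'.trans (hτ x)
  let θ := IsOpenImmersion.lift Zo.ι θ₀ hθr
  have hθ : θ ≫ Zo.ι = θ₀ := IsOpenImmersion.lift_fac _ _ _
  have hθζ : m ≫ pullback.snd f i = θ ≫ ζ := by
    rw [hm2, ← Category.assoc, hθ, pullback.lift_snd]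
  -- the inverse
  let P₁ := pullback (pullback.snd f i) ζ
  have hlQ : (pullback.fst (pullback.snd f i) ζ ≫ pullback.fst f i) ≫ f =
      (pullback.snd (pullback.snd f i) ζ ≫ Zo.ι ≫ pullback.fst (U'.ι ≫ fromN) i) ≫ U'.ι ≫ fromN := by
    simp only [Category.assoc]
    rw [pullback.condition, pullback.condition_assoc, pullback.condition]
    simp only [ζ, Category.assoc]
  let lQ : P₁ ⟶ (Q : Scheme.{u}) := hQ.lift _ _ hlQ
  let lX : P₁ ⟶ X' := lQ ≫ inv cQ ≫ A.ι
  have hlXg : lX ≫ g = pullback.fst (pullback.snd f i) ζ ≫ pullback.fst f i := by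
    simp only [lX, Category.assoc, hAg, IsIso.inv_hom_id_assoc]
    exact hQ.lift_fst _ _ _
  have hlXτ : lX ≫ τ = (pullback.snd (pullback.snd f i) ζ ≫ Zo.ι ≫ pullback.fst (U'.ι ≫ fromN) i) ≫ U'.ι := by
    simp only [lX, Category.assoc, ← hcQU, IsIso.inv_hom_id_assoc]
    rw [← Category.assoc, hQ.lift_snd]
    simp only [Category.assoc]
  let lC₀ : P₁ ⟶ pullback q i :=
    pullback.lift lX (pullback.fst (pullback.snd f i) ζ ≫ pullback.snd f i) (by
      show lX ≫ g ≫ f = _
      rw [reassoc_of% hlXg, pullback.condition, Category.assoc])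
  have hlr : Set.range lC₀ ⊆ Set.range C.ι := by
    rw [Scheme.Opens.range_ι]
    rintro _ ⟨p, rfl⟩
    refine (hC _).2 ?_
    rw [← Scheme.Hom.comp_apply, ← Scheme.Hom.comp_apply]
    rw [pullback.lift_fst_assoc, hlXτ]
    simp only [Scheme.Hom.comp_apply]
    exact congrArg U'.ι (pullback.snd (pullback.snd f i) ζ p).2
  let lC := IsOpenImmersion.lift C.ι lC₀ hlr
  have hlC : lC ≫ C.ι = lC₀ := IsOpenImmersion.lift_fac _ _ _
  let h₁ : (C : Scheme.{u}) ⟶ P₁ := pullback.lift m θ hθζ
  have hh₁ : h₁ ≫ lC = 𝟙 _ := by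
    rw [← cancel_mono C.ι, Category.assoc, hlC, Category.id_comp]
    refine pullback.hom_ext ?_ ?_
    · rw [Category.assoc, pullback.lift_fst]
      have e : h₁ ≫ lQ = k ≫ cQ := by
        refine hQ.hom_ext ?_ ?_
        · rw [Category.assoc, hQ.lift_fst, pullback.lift_fst_assoc, hm1, Category.assoc, ← hAg,
            reassoc_of% hkι]
        · rw [Category.assoc, hQ.lift_snd, pullback.lift_snd_assoc, reassoc_of% hθ, pullback.lift_fst,
            Category.assoc]
      simp only [lX, ← Category.assoc]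
      rw [e]
      simp only [Category.assoc, IsIso.hom_inv_id_assoc]
      exact hkι
    · rw [Category.assoc, pullback.lift_snd, pullback.lift_fst_assoc, hm2]
  have hh₂ : lC ≫ h₁ = 𝟙 _ := by
    refine pullback.hom_ext ?_ ?_
    · rw [Category.assoc, pullback.lift_fst, Category.id_comp]
      refine pullback.hom_ext ?_ ?_
      · rw [Category.assoc, hm1, reassoc_of% hlC, pullback.lift_fst_assoc, hlXg]
      · rw [Category.assoc, hm2, reassoc_of% hlC, pullback.lift_snd]
    · rw [Category.assoc, pullback.lift_snd, Category.id_comp, ← cancel_mono Zo.ι, Category.assoc, hθ]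
      refine pullback.hom_ext ?_ ?_
      · rw [Category.assoc, pullback.lift_fst, ← cancel_mono U'.ι]
        simp only [Category.assoc]
        rw [hcQU, reassoc_of% hkι, reassoc_of% hlC, pullback.lift_fst_assoc, hlXτ]
        simp only [Category.assoc]
      · rw [Category.assoc, pullback.lift_snd, reassoc_of% hlC, pullback.lift_snd, pullback.condition,
          Category.assoc]
  have hCsq : IsPullback m θ (pullback.snd f i) ζ :=
    IsPullback.of_iso (IsPullback.of_hasPullback (pullback.snd f i) ζ) ⟨lC, h₁, hh₂, hh₁⟩ (Iso.refl _)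
      (Iso.refl _) (Iso.refl _)
      (by
        simp only [Iso.refl_hom, Category.comp_id]
        rw [← pullback.lift_fst m θ hθζ, ← Category.assoc]
        exact ((congrArg (· ≫ pullback.fst (pullback.snd f i) ζ) hh₂).trans (Category.id_comp _)).symm)
      (by
        simp only [Iso.refl_hom, Category.comp_id]
        rw [← pullback.lift_snd m θ hθζ, ← Category.assoc]
        exact ((congrArg (· ≫ pullback.snd (pullback.snd f i) ζ) hh₂).trans (Category.id_comp _)).symm)
      (by simp) (by simp)
  haveI hF : IsFinite m := MorphismProperty.of_isPullback hCsq.flip ‹IsFinite ζ›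
  haveI hE : Etale m := MorphismProperty.of_isPullback hCsq.flip ‹Etale ζ›
  refine ⟨hF, hE, ?_⟩
  let σK := Spec.map (CommRingCat.ofHom (algebraMap (S.residueField s) (AlgebraicClosure (S.residueField s))))
  let p₀ := pullback.fst (pullback.snd f i) σK
  haveI : IsFinite (pullback.snd m p₀) := MorphismProperty.pullback_snd (P := @IsFinite) m p₀ hF
  haveI : Etale (pullback.snd m p₀) := MorphismProperty.pullback_snd (P := @Etale) m p₀ hE
  have hsq : IsPullback (pullback.snd m p₀) (pullback.fst m p₀ ≫ θ) (pullback.snd (pullback.snd f i) σK ≫ σK) ζ := by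
    rw [← pullback.condition]
    exact ((IsPullback.of_hasPullback m p₀).flip.paste_vert hCsq.flip.flip)
  exact isSplit_of_isPullback σK (pullback.snd (pullback.snd f i) σK) ζ (pullback.snd m p₀)
    (pullback.fst m p₀ ≫ θ) hsq

/-- The converse: a geometric section of the component makes the Stein factorisation étale at the point. -/
theorem etale_of_fibre [IsProper f] (hO : ∀ U : S.Opens, Function.Bijective (f.app U).hom) [IsProper g]
    (c : X' ⟶ pullback f (g ≫ f).fromNormalization)
    (hc1 : c ≫ pullback.fst f (g ≫ f).fromNormalization = g)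
    (hc2 : c ≫ pullback.snd f (g ≫ f).fromNormalization = (g ≫ f).toNormalization)
    (s : S) (s' : ↥((g ≫ f).normalization)) (hs' : (g ≫ f).fromNormalization s' = s)
    (C : (pullback (g ≫ f) (S.fromSpecResidueField s)).Opens)
    (hC : ∀ x : ↥(pullback (g ≫ f) (S.fromSpecResidueField s)),
      x ∈ C ↔ (g ≫ f).toNormalization ((pullback.fst (g ≫ f) (S.fromSpecResidueField s)) x) = s')
    (m : (C : Scheme.{u}) ⟶ pullback f (S.fromSpecResidueField s))
    (hm1 : m ≫ pullback.fst f (S.fromSpecResidueField s) =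
      C.ι ≫ pullback.fst (g ≫ f) (S.fromSpecResidueField s) ≫ g)
    (het : ∀ x : C, pullback.fst (g ≫ f) (S.fromSpecResidueField s) x.1 ∈ Pi1X.etaleLocus g)
    {ι : Type u} (e : pullback m (pullback.fst (pullback.snd f (S.fromSpecResidueField s))
          (Spec.map (CommRingCat.ofHom (algebraMap (S.residueField s) (AlgebraicClosure (S.residueField s)))))) ≅
        ∐ fun _ : ι => pullback (pullback.snd f (S.fromSpecResidueField s))
          (Spec.map (CommRingCat.ofHom (algebraMap (S.residueField s) (AlgebraicClosure (S.residueField s))))))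
    (he : ∀ i, Sigma.ι (fun _ : ι => pullback (pullback.snd f (S.fromSpecResidueField s))
          (Spec.map (CommRingCat.ofHom (algebraMap (S.residueField s) (AlgebraicClosure (S.residueField s)))))) i ≫
        e.inv ≫ pullback.snd _ _ = 𝟙 _) :
    ∃ U' : ((g ≫ f).normalization).Opens, s' ∈ U' ∧ Etale (U'.ι ≫ (g ≫ f).fromNormalization) ∧
      IsIso (c ∣_ ((pullback.snd f (g ≫ f).fromNormalization) ⁻¹ᵁ U')) := by
  classical
  let q := g ≫ f
  let τ := q.toNormalization
  let i := S.fromSpecResidueField s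
  let K := AlgebraicClosure (S.residueField s)
  let σK := Spec.map (CommRingCat.ofHom (algebraMap (S.residueField s) K))
  -- a point of the component
  haveI : IsProper (τ ≫ q.fromNormalization) := by
    rw [Scheme.Hom.toNormalization_fromNormalization]; infer_instance
  haveI : IsProper τ := IsProper.of_comp τ q.fromNormalization
  have hτs : Function.Surjective τ := by
    rw [← Set.range_eq_univ, ← (τ.isClosedMap.isClosed_range).closure_eq]
    exact τ.denseRange.closure_range
  obtain ⟨z, hz⟩ := hτs s'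
  have hzs : q z = i (default : Spec (CommRingCat.of (S.residueField s))) := by
    have e' : q z = s := by
      rw [← Scheme.Hom.toNormalization_fromNormalization q, Scheme.Hom.comp_apply]
      exact (congrArg _ hz).trans hs'
    exact e'.trans (Scheme.fromSpecResidueField_apply s _).symm
  obtain ⟨c₀, hc₀, -⟩ := Scheme.Pullback.exists_preimage_pullback (f := q) (g := i) z default hzs
  have hc₀C : c₀ ∈ C := (hC c₀).2 (by rw [hc₀]; exact hz)
  haveI : Surjective σK := ⟨fun x => ⟨default, Subsingleton.elim (α := Spec (CommRingCat.of (S.residueField s))) _ _⟩⟩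
  haveI : Surjective (pullback.fst (pullback.snd f i) σK) :=
    MorphismProperty.pullback_fst (P := @Surjective) _ _ ‹Surjective σK›
  haveI : Surjective (pullback.fst m (pullback.fst (pullback.snd f i) σK)) :=
    MorphismProperty.pullback_fst (P := @Surjective) _ _ inferInstance
  obtain ⟨w, -⟩ := (pullback.fst m (pullback.fst (pullback.snd f i) σK)).surjective ⟨c₀, hc₀C⟩
  obtain ⟨j, p, -⟩ := (sigmaOpenCover fun _ : ι => pullback (pullback.snd f i) σK).exists_eq (e.hom w)
  -- the section
  let ξ := σK ≫ i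
  let P := pullback f ξ
  let π₀ : P ⟶ pullback (pullback.snd f i) σK :=
    pullback.lift (pullback.lift (pullback.fst f ξ) (pullback.snd f ξ ≫ σK) (by
      rw [Category.assoc]; exact pullback.condition)) (pullback.snd f ξ) (pullback.lift_snd _ _ _)
  let π₁ : pullback (pullback.snd f i) σK ⟶ P :=
    pullback.lift (pullback.fst (pullback.snd f i) σK ≫ pullback.fst f i) (pullback.snd (pullback.snd f i) σK) (by
      rw [Category.assoc, pullback.condition, pullback.condition_assoc])
  let d : P ⟶ (C : Scheme.{u}) :=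
    π₀ ≫ Sigma.ι (fun _ : ι => pullback (pullback.snd f i) σK) j ≫ e.inv ≫
      pullback.fst m (pullback.fst (pullback.snd f i) σK)
  have hd : d ≫ m = π₀ ≫ pullback.fst (pullback.snd f i) σK := by
    simp only [d, Category.assoc]
    rw [pullback.condition]
    exact congrArg (π₀ ≫ ·) ((Category.assoc _ _ _).symm.trans ((Category.assoc _ _ _).symm.trans
      ((congrArg (· ≫ _) ((Category.assoc _ _ _).trans (he j))).trans (Category.id_comp _))))
  have hr : Set.range (d ≫ C.ι ≫ pullback.fst q i) ⊆ Set.range (Pi1X.etaleLocus g).ι := by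
    rw [Scheme.Opens.range_ι]
    rintro _ ⟨x, rfl⟩
    exact het (d x)
  let σ := IsOpenImmersion.lift (Pi1X.etaleLocus g).ι (d ≫ C.ι ≫ pullback.fst q i) hr
  have hσι : σ ≫ (Pi1X.etaleLocus g).ι = d ≫ C.ι ≫ pullback.fst q i := IsOpenImmersion.lift_fac _ _ _
  have hσ : σ ≫ (Pi1X.etaleLocus g).ι ≫ g = pullback.fst f ξ := by
    rw [reassoc_of% hσι, ← hm1, reassoc_of% hd, pullback.lift_fst_assoc, pullback.lift_fst]
  haveI : LocallyOfFiniteType (pullback.snd f ξ) := MorphismProperty.pullback_snd _ _ inferInstance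
  haveI : JacobsonSpace ↥P := LocallyOfFiniteType.jacobsonSpace (pullback.snd f ξ)
  obtain ⟨y, -, hyc⟩ := nonempty_inter_closedPoints (X := ↥P) (Z := Set.univ) ⟨π₁ p, trivial⟩
    isOpen_univ.isLocallyClosed
  let ρ : Spec (CommRingCat.of K) ⟶ P := pointOfClosedPoint (pullback.snd f ξ) y hyc
  refine exists_open_of_section f g hO c hc1 hc2 ξ σ hσ ρ (pointOfClosedPoint_comp _ _ _) s' ?_
  have e' : ((ρ ≫ σ) ≫ (Pi1X.etaleLocus g).ι) ≫ τ = ρ ≫ d ≫ C.ι ≫ pullback.fst q i ≫ τ := by
    rw [Category.assoc ρ σ, hσι]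
    simp only [Category.assoc]
  refine ((Scheme.Hom.comp_apply _ _ _).trans (congrArg τ (Scheme.Hom.comp_apply _ _ _))).symm.trans
    ((congrArg (fun k : Spec (CommRingCat.of K) ⟶ q.normalization => k default) e').trans ?_)
  simp only [Scheme.Hom.comp_apply]
  exact (hC _).1 (d (ρ default)).2

end Groth.Agent.FEtProperConn
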