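import Groth.Agent.FEtProperConn.SteinEtale
import Groth.Agent.FEtProperConn.Repr
import Groth.Agent.AlgSpB.Art.SchQuot

/-!
# Étale trivialisation near a section of the étale locus over a geometric fibre
-/

set_option autoImplicit false
set_option linter.style.haveILetI false
set_option maxHeartbeats 1000000
set_option backward.isDefEq.respectTransparency.types false
set_option backward.isDefEq.respectTransparency false

universe u

open CategoryTheory CategoryTheory.Limits AlgebraicGeometry Opposite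

noncomputable section

namespace Groth.Agent.FEtProperConn

open Groth.Agent Groth.Agent.EtaleSite

section Agree

variable {T U X : Scheme.{u}} (u : U ⟶ X) [Etale u] (k₁ k₂ : T ⟶ U) (h : k₁ ≫ u = k₂ ≫ u)

/-- The open locus where two maps to an étale scheme agree. -/
def agree : T.Opens := pullback.lift k₁ k₂ h ⁻¹ᵁ (pullback.diagonal u).opensRange

theorem isClosed_agree [IsSeparated u] : IsClosed (agree u k₁ k₂ h : Set T) :=
  ((pullback.diagonal u).isClosedEmbedding.isClosed_range).preimage (pullback.lift k₁ k₂ h).continuous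

theorem eq_of_agree {T' : Scheme.{u}} (x : T' ⟶ T) (hx : ∀ z, x z ∈ agree u k₁ k₂ h) :
    x ≫ k₁ = x ≫ k₂ := by
  have hr : Set.range (x ≫ pullback.lift k₁ k₂ h) ⊆ Set.range (pullback.diagonal u) := by
    rintro _ ⟨z, rfl⟩
    exact hx z
  have e := IsOpenImmersion.lift_fac (pullback.diagonal u) (x ≫ pullback.lift k₁ k₂ h) hr
  have e₁ := congrArg (· ≫ pullback.fst u u) e
  have e₂ := congrArg (· ≫ pullback.snd u u) e
  simp only [Category.assoc, pullback.diagonal_fst, pullback.diagonal_snd, Category.comp_id,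
    pullback.lift_fst, pullback.lift_snd] at e₁ e₂
  exact e₁.symm.trans e₂

theorem mem_agree {T' : Scheme.{u}} (x : T' ⟶ T) (hx : x ≫ k₁ = x ≫ k₂) (z : T') :
    x z ∈ agree u k₁ k₂ h := by
  refine ⟨(x ≫ k₁) z, ?_⟩
  show _ = pullback.lift k₁ k₂ h (x z)
  rw [← Scheme.Hom.comp_apply, ← Scheme.Hom.comp_apply]
  refine congrArg (fun k : T' ⟶ pullback u u => k z) ?_
  apply pullback.hom_ext <;> simp [hx]

end Agree

variable {X X' S : Scheme.{u}} (f : X ⟶ S) [IsProper f] [Surjective f]

/-- The base change of a proper surjection with geometrically connected fibres has connected fibres. -/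
theorem isConnected_preimage_bc
    (hconn : ∀ (K : Type u) [Field K] [IsAlgClosed K] (ξ : Spec (CommRingCat.of K) ⟶ S),
      ConnectedSpace ↑(pullback f ξ)) {T : Scheme.{u}} (t : T ⟶ S) (w : T) :
    _root_.IsConnected (pullback.snd f t ⁻¹' {w}) := by
  haveI : Surjective (pullback.snd f t) := MorphismProperty.pullback_snd f t ‹Surjective f›
  haveI : IsProper (pullback.snd f t) := MorphismProperty.pullback_snd f t ‹IsProper f›
  refine S2916.isConnected_preimage (pullback.snd f t) (fun K _ _ ξ => ?_) w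
  let sq : IsPullback (pullback.fst (pullback.snd f t) ξ ≫ pullback.fst f t)
      (pullback.snd (pullback.snd f t) ξ) f (ξ ≫ t) :=
    (IsPullback.of_hasPullback (pullback.snd f t) ξ).paste_horiz (IsPullback.of_hasPullback f t)
  haveI := hconn K (ξ ≫ t)
  exact sq.isoPullback.inv.surjective.connectedSpace sq.isoPullback.inv.continuous

/-- A section of the étale locus over a geometric fibre spreads out to a trivialisation. -/
theorem exists_trivial_nbhd
    (hconn : ∀ (K : Type u) [Field K] [IsAlgClosed K] (ξ : Spec (CommRingCat.of K) ⟶ S),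
      ConnectedSpace ↑(pullback f ξ))
    (g : X' ⟶ X) [IsProper g] {L : Type u} [Field L] [IsAlgClosed L]
    (ξ : Spec (CommRingCat.of L) ⟶ S)
    (σ : pullback f ξ ⟶ (Pi1X.etaleLocus g : Scheme.{u}))
    (hσ : σ ≫ (Pi1X.etaleLocus g).ι ≫ g = pullback.fst f ξ) :
    ∃ (S₁ : Scheme.{u}) (e : S₁ ⟶ S) (_ : Etale e) (ψ : pullback f e ⟶ X') (_ : IsOpenImmersion ψ),
      ψ ≫ g = pullback.fst f e ∧ Set.range (σ ≫ (Pi1X.etaleLocus g).ι) ⊆ Set.range ψ := by
  classical
  let E := Pi1X.etaleLocus g
  let u := E.ι ≫ g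
  haveI : Etale u := etale_etaleLocus g
  haveI : IsSeparated u := inferInstanceAs (IsSeparated (E.ι ≫ g))
  obtain ⟨V, v, a, ha⟩ := exists_lift_section f ξ (Scheme.Etale.mk u) σ hσ
  haveI : Etale V.hom := V.prop
  -- an affine neighbourhood
  let vl : Spec (CommRingCat.of L) ⟶ V.left := v.left
  obtain ⟨O, hO, hvO, -⟩ := exists_isAffineOpen_mem_and_subset
    (x := vl (default : Spec (CommRingCat.of L))) (U := ⊤) trivial
  haveI : IsAffine (O : Scheme.{u}) := hO
  let A : Scheme.{u} := O
  let hA : A ⟶ S := O.ι ≫ V.hom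
  haveI : Etale hA := inferInstanceAs (Etale (O.ι ≫ V.hom))
  haveI : IsSeparated hA := by
    haveI : IsSeparated (hA ≫ terminal.from S) := by
      rw [Subsingleton.elim (hA ≫ terminal.from S) (terminal.from A)]
      haveI : IsAffine A := hO
      infer_instance
    exact IsSeparated.of_comp hA (terminal.from S)
  have hwr : Set.range vl ⊆ Set.range O.ι := by
    rw [Scheme.Opens.range_ι]
    rintro _ ⟨o, rfl⟩
    rw [Subsingleton.elim o default]
    exact hvO
  let w : Spec (CommRingCat.of L) ⟶ A := IsOpenImmersion.lift O.ι vl hwr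
  have hw : w ≫ hA = ξ := by
    rw [← Category.assoc, IsOpenImmersion.lift_fac]
    exact Over.w v
  let XA := pullback f hA
  let a' : XA ⟶ (E : Scheme.{u}) :=
    pullback.lift (f := V.hom) (g := f) (pullback.snd f hA ≫ O.ι) (pullback.fst f hA)
      (by rw [Category.assoc]; exact pullback.condition.symm) ≫ a.left
  have ha' : a' ≫ u = pullback.fst f hA := by
    refine (Category.assoc _ _ _).trans ((congrArg (_ ≫ ·) (MorphismProperty.Over.w a)).trans ?_)
    exact pullback.lift_snd _ _ _
  -- agreement with `σ`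
  let P := pullback f ξ
  let j : P ⟶ XA := pullback.lift (pullback.fst f ξ) (pullback.snd f ξ ≫ w) (by
    rw [Category.assoc, hw]; exact pullback.condition)
  have hσu : σ ≫ u = (j ≫ a') ≫ u := by
    rw [Category.assoc, ha', pullback.lift_fst]; exact hσ
  haveI : ConnectedSpace ↥P := hconn L ξ
  have hja : σ = j ≫ a' := by
    haveI : LocallyOfFiniteType (pullback.snd f ξ) := MorphismProperty.pullback_snd _ _ inferInstance
    haveI : JacobsonSpace ↥P := LocallyOfFiniteType.jacobsonSpace (pullback.snd f ξ)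
    obtain ⟨p₀⟩ := (inferInstance : Nonempty ↥P)
    obtain ⟨y, -, hyc⟩ := nonempty_inter_closedPoints (X := ↥P) (Z := Set.univ) ⟨p₀, trivial⟩
      isOpen_univ.isLocallyClosed
    let ρ : Spec (CommRingCat.of L) ⟶ P := pointOfClosedPoint (pullback.snd f ξ) y hyc
    have hρ : ρ ≫ pullback.snd f ξ = 𝟙 _ := pointOfClosedPoint_comp _ _ _
    have h' : (ρ ≫ pullback.fst f ξ) ≫ f = ξ := by
      rw [Category.assoc, pullback.condition, reassoc_of% hρ]
    have e : ρ ≫ σ = ρ ≫ j ≫ a' := by
      refine (ha ρ hρ h').symm.trans ?_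
      simp only [a', ← Category.assoc]
      refine congrArg (· ≫ a.left) (pullback.hom_ext ?_ ?_)
      · refine (pullback.lift_fst _ _ _).trans ?_
        simp only [Category.assoc, pullback.lift_fst]
        rw [show j ≫ pullback.snd f hA ≫ O.ι = pullback.snd f ξ ≫ w ≫ O.ι from by
          rw [← Category.assoc, pullback.lift_snd, Category.assoc], reassoc_of% hρ, IsOpenImmersion.lift_fac]
      · refine (pullback.lift_snd _ _ _).trans ?_
        simp only [Category.assoc, pullback.lift_snd, j, pullback.lift_fst]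
    have hmem : ρ default ∈ agree u σ (j ≫ a') hσu := mem_agree u _ _ hσu ρ e _
    have htop : (agree u σ (j ≫ a') hσu : Set P) = Set.univ :=
      IsClopen.eq_univ ⟨isClosed_agree u _ _ hσu, (agree u σ (j ≫ a') hσu).2⟩ ⟨_, hmem⟩
    simpa using eq_of_agree u _ _ hσu (𝟙 P) fun z => (Set.ext_iff.1 htop _).2 trivial
  -- the relation
  let P2 := pullback hA hA
  let pP : P2 ⟶ S := pullback.fst hA hA ≫ hA
  let Q := pullback f pP
  let q : Q ⟶ P2 := pullback.snd f pP
  haveI : Surjective q := MorphismProperty.pullback_snd f pP ‹Surjective f›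
  haveI : IsProper q := MorphismProperty.pullback_snd f pP ‹IsProper f›
  let c₁ : Q ⟶ XA := pullback.lift (pullback.fst f pP) (q ≫ pullback.fst hA hA) (by
    rw [Category.assoc]; exact pullback.condition)
  let c₂ : Q ⟶ XA := pullback.lift (pullback.fst f pP) (q ≫ pullback.snd hA hA) (by
    rw [Category.assoc, ← pullback.condition]; exact pullback.condition)
  have hc : (c₁ ≫ a') ≫ u = (c₂ ≫ a') ≫ u := by
    simp only [Category.assoc, ha', c₁, c₂, pullback.lift_fst]
  let G := agree u (c₁ ≫ a') (c₂ ≫ a') hc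
  have hGc : IsClosed (G : Set Q) := isClosed_agree u _ _ hc
  have hsat : ∀ p p', q p = q p' → p ∈ G → p' ∈ G := fun p p' e hp =>
    (isConnected_preimage_bc f hconn pP (q p')).isPreconnected.subset_isClopen ⟨hGc, G.2⟩
      ⟨p, e, hp⟩ rfl
  have hRset : q '' (G : Set Q) = (q '' (G : Set Q)ᶜ)ᶜ := by
    ext z
    constructor
    · rintro ⟨p, hp, rfl⟩ ⟨p', hp', e⟩
      exact hp' (hsat p p' e.symm hp)
    · intro hz
      obtain ⟨p, rfl⟩ := q.surjective z
      by_cases hp : p ∈ G
      · exact ⟨p, hp, rfl⟩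
      · exact (hz ⟨p, hp, rfl⟩).elim
  let R : P2.Opens := ⟨q '' (G : Set Q), by
    rw [hRset]; exact (q.isClosedMap _ G.2.isClosed_compl).isOpen_compl⟩
  have hRc : IsClosed (R : Set P2) := q.isClosedMap _ hGc
  have hRG : ∀ p, q p ∈ R → p ∈ G := fun p hp => by
    obtain ⟨p', hp', e⟩ := hp
    exact hsat p' p e hp'
  let sect : ∀ {T : Scheme.{u}} (t : T ⟶ S) (x : T ⟶ A) (_ : x ≫ hA = t),
      pullback f t ⟶ (E : Scheme.{u}) := fun {T} t x hx =>
    pullback.lift (pullback.fst f t) (pullback.snd f t ≫ x)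
      (by rw [Category.assoc, hx]; exact pullback.condition) ≫ a'
  have key : ∀ {T : Scheme.{u}} (t : T ⟶ S) (x y : T ⟶ A) (hx : x ≫ hA = t) (hy : y ≫ hA = t),
      (∀ z, pullback.lift x y (hx.trans hy.symm) z ∈ R) ↔ sect t x hx = sect t y hy := by
    intro T t x y hx hy
    haveI : Surjective (pullback.snd f t) := MorphismProperty.pullback_snd f t ‹Surjective f›
    let k : pullback f t ⟶ Q := pullback.lift (pullback.fst f t)
      (pullback.snd f t ≫ pullback.lift x y (hx.trans hy.symm)) (by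
        rw [Category.assoc, show pullback.lift x y (hx.trans hy.symm) ≫ pP = t by
          rw [← Category.assoc, pullback.lift_fst, hx]]
        exact pullback.condition)
    have hk₁ : k ≫ c₁ ≫ a' = sect t x hx := by
      show _ = _ ≫ a'
      rw [← Category.assoc]
      congr 1
      apply pullback.hom_ext <;> simp [c₁, k, q]
    have hk₂ : k ≫ c₂ ≫ a' = sect t y hy := by
      show _ = _ ≫ a'
      rw [← Category.assoc]
      congr 1
      apply pullback.hom_ext <;> simp [c₂, k, q]
    have hkq : ∀ p, q (k p) = pullback.lift x y (hx.trans hy.symm) (pullback.snd f t p) := fun p => by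
      rw [← Scheme.Hom.comp_apply, ← Scheme.Hom.comp_apply, show k ≫ q = _ from pullback.lift_snd _ _ _]
    constructor
    · intro h
      rw [← hk₁, ← hk₂]
      exact eq_of_agree u _ _ hc k fun p => hRG _ ((hkq p).symm ▸ h _)
    · intro h z
      obtain ⟨p, rfl⟩ := (pullback.snd f t).surjective z
      exact ⟨k p, mem_agree u _ _ hc k (by rw [hk₁, hk₂, h]) p, hkq p⟩
  let AO : Over S := Over.mk hA
  let RO : Over S := Over.mk (R.ι ≫ pP)
  let t₀ : RO ⟶ AO := Over.homMk (R.ι ≫ pullback.fst hA hA) (Category.assoc _ _ _)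
  let s₀ : RO ⟶ AO := Over.homMk (R.ι ≫ pullback.snd hA hA) (by
    show (R.ι ≫ pullback.snd hA hA) ≫ hA = R.ι ≫ pP
    rw [Category.assoc, ← pullback.condition])
  let fA : AO ⟶ Over.mk (𝟙 S) := Over.homMk hA (Category.comp_id _)
  haveI : Etale fA.left := ‹Etale hA›
  haveI : IsSeparated fA.left := ‹IsSeparated hA›
  have hinR : ∀ {T : Over S} (x y : T ⟶ AO),
      (∃ r : T ⟶ RO, r ≫ t₀ = x ∧ r ≫ s₀ = y) ↔
        sect T.hom x.left (Over.w x) = sect T.hom y.left (Over.w y) := by
    intro T x y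
    refine Iff.trans ?_ (key T.hom x.left y.left (Over.w x) (Over.w y))
    constructor
    · rintro ⟨r, rfl, rfl⟩ z
      have e : ∀ h, pullback.lift (r ≫ t₀).left (r ≫ s₀).left h = r.left ≫ R.ι := fun h => by
        apply pullback.hom_ext <;> simp [t₀, s₀] <;> rfl
      rw [e, Scheme.Hom.comp_apply]
      exact (r.left z).2
    · intro h
      let l := pullback.lift x.left y.left ((Over.w x).trans (Over.w y).symm)
      have hr : Set.range l ⊆ Set.range R.ι := by
        rw [Scheme.Opens.range_ι]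
        rintro _ ⟨z, rfl⟩
        exact h z
      have hl : IsOpenImmersion.lift R.ι l hr ≫ R.ι = l := IsOpenImmersion.lift_fac _ _ _
      refine ⟨Over.homMk (IsOpenImmersion.lift R.ι l hr) (by
        show IsOpenImmersion.lift R.ι l hr ≫ R.ι ≫ pP = T.hom
        rw [reassoc_of% hl]
        exact (Category.assoc _ _ _).symm.trans
          ((congrArg (· ≫ hA) (pullback.lift_fst _ _ _)).trans (Over.w x))), ?_, ?_⟩ <;> refine Over.OverMorphism.ext ?_
      · show IsOpenImmersion.lift R.ι l hr ≫ R.ι ≫ pullback.fst hA hA = x.left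
        rw [reassoc_of% hl]
        exact pullback.lift_fst _ _ _
      · show IsOpenImmersion.lift R.ι l hr ≫ R.ι ≫ pullback.snd hA hA = y.left
        rw [reassoc_of% hl]
        exact pullback.lift_snd _ _ _
  have heqv : _root_.AlgSp.IsEqvRel s₀ t₀ := by
    refine ⟨fun T r r' h₁ h₂ => Over.OverMorphism.ext ?_, fun T => ?_⟩
    · refine (cancel_mono R.ι).1 (pullback.hom_ext ?_ ?_)
      · simpa [t₀] using congrArg (fun m => m.left) h₁
      · simpa [s₀] using congrArg (fun m => m.left) h₂
    · exact ⟨fun x => (hinR x x).2 rfl, fun h => (hinR _ _).2 ((hinR _ _).1 h).symm,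
        fun h h' => (hinR _ _).2 (((hinR _ _).1 h).trans ((hinR _ _).1 h'))⟩
  have hwfA : t₀ ≫ fA = s₀ ≫ fA := Over.OverMorphism.ext (by
    show (R.ι ≫ _) ≫ hA = (R.ι ≫ _) ≫ hA
    rw [Category.assoc, pullback.condition, ← Category.assoc])
  haveI : IsClosedImmersion R.ι :=
    IsClosedImmersion.of_isPreimmersion R.ι (by rw [Scheme.Opens.range_ι]; exact hRc)
  have hclosed : IsClosedImmersion (pullback.lift t₀ s₀ hwfA : RO ⟶ pullback fA fA).left := by
    let i := ((IsPullback.of_hasPullback fA fA).map (Over.forget S)).isoPullback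
    have e : (pullback.lift t₀ s₀ hwfA : RO ⟶ pullback fA fA).left ≫ i.hom = R.ι := by
      refine pullback.hom_ext ?_ ?_
      · refine (Category.assoc _ _ _).trans ((congrArg (_ ≫ ·) (IsPullback.isoPullback_hom_fst _)).trans ?_)
        exact (congrArg (fun m => m.left) (pullback.lift_fst t₀ s₀ hwfA))
      · refine (Category.assoc _ _ _).trans ((congrArg (_ ≫ ·) (IsPullback.isoPullback_hom_snd _)).trans ?_)
        exact (congrArg (fun m => m.left) (pullback.lift_snd t₀ s₀ hwfA))
    exact (MorphismProperty.cancel_right_of_respectsIso @IsClosedImmersion _ i.hom).1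
      (e ▸ ‹IsClosedImmersion R.ι›)
  haveI : Etale (pullback.snd hA hA) := MorphismProperty.pullback_snd _ _ ‹Etale hA›
  haveI : Etale s₀.left := inferInstanceAs (Etale (R.ι ≫ pullback.snd hA hA))
  obtain ⟨S₁, π, gS, hπe, hπs, hπg, hge, -, sq⟩ :=
    AlgSpB.Art.exists_scheme_quot t₀ s₀ fA heqv hwfA hclosed
  let e : S₁.left ⟶ S := gS.left
  have hπe' : π.left ≫ e = hA := by
    rw [← Over.comp_left, hπg]; rfl
  have hker : ∀ {T : Scheme.{u}} (t : T ⟶ S) (x y : T ⟶ A) (hx : x ≫ hA = t) (hy : y ≫ hA = t),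
      x ≫ π.left = y ≫ π.left ↔ sect t x hx = sect t y hy := by
    intro T t x y hx hy
    let x' : Over.mk t ⟶ AO := Over.homMk x hx
    let y' : Over.mk t ⟶ AO := Over.homMk y hy
    refine Iff.trans ?_ (hinR x' y')
    constructor
    · intro h
      have h' : (_root_.AlgSp.yon S).map x' ≫ (_root_.AlgSp.yon S).map π =
          (_root_.AlgSp.yon S).map y' ≫ (_root_.AlgSp.yon S).map π := by
        rw [← Functor.map_comp, ← Functor.map_comp]
        exact congrArg _ (Over.OverMorphism.ext h)
      refine ⟨(_root_.AlgSp.yon S).preimage (sq.lift _ _ h'),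
        (_root_.AlgSp.yon S).map_injective ?_, (_root_.AlgSp.yon S).map_injective ?_⟩
      · rw [Functor.map_comp, Functor.map_preimage]; exact sq.lift_fst _ _ _
      · rw [Functor.map_comp, Functor.map_preimage]; exact sq.lift_snd _ _ _
    · rintro ⟨r, hr₁, hr₂⟩
      have hst : t₀ ≫ π = s₀ ≫ π := (_root_.AlgSp.yon S).map_injective (by
        rw [Functor.map_comp, Functor.map_comp]; exact sq.w)
      have e' : x' ≫ π = y' ≫ π := by rw [← hr₁, ← hr₂, Category.assoc, Category.assoc, hst]
      exact congrArg (fun m => m.left) e'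
  -- the descended map
  let iπ : XA ⟶ pullback f e := pullback.lift (pullback.fst f hA) (pullback.snd f hA ≫ π.left) (by
    rw [Category.assoc, hπe']; exact pullback.condition)
  have sqπ : IsPullback iπ (pullback.snd f hA) (pullback.snd f e) π.left := by
    refine IsPullback.of_right ?_ (pullback.lift_snd _ _ _) (IsPullback.of_hasPullback f e)
    rw [show iπ ≫ pullback.fst f e = pullback.fst f hA from pullback.lift_fst _ _ _, hπe']
    exact IsPullback.of_hasPullback f hA
  haveI : Etale iπ := MorphismProperty.of_isPullback sqπ.flip hπe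
  haveI : Surjective iπ := MorphismProperty.of_isPullback sqπ.flip hπs
  have sectAt : ∀ {T : Scheme.{u}} (k : T ⟶ XA) (t : T ⟶ S) (ht : k ≫ pullback.snd f hA ≫ hA = t),
      pullback.lift (f := f) (k ≫ pullback.fst f hA) (𝟙 T) (by
        rw [Category.id_comp, Category.assoc, pullback.condition, ← ht]) ≫
      sect t (k ≫ pullback.snd f hA) ((Category.assoc _ _ _).trans ht) = k ≫ a' := by
    intro T k t ht
    show _ ≫ _ ≫ a' = _
    rw [← Category.assoc]
    congr 1
    apply pullback.hom_ext <;> simp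
    exact Category.id_comp _
  have hdesc : ∀ {Z : Scheme.{u}} (g₁ g₂ : Z ⟶ XA), g₁ ≫ iπ = g₂ ≫ iπ → g₁ ≫ a' = g₂ ≫ a' := by
    intro Z g₁ g₂ h
    have h₁ := congrArg (· ≫ pullback.fst f e) h
    have h₂ := congrArg (· ≫ pullback.snd f e) h
    simp only [iπ, Category.assoc, pullback.lift_fst, pullback.lift_snd] at h₁ h₂
    let t := g₁ ≫ pullback.snd f hA ≫ hA
    have ht₂ : g₂ ≫ pullback.snd f hA ≫ hA = t := by
      simp only [t, ← pullback.condition]
      rw [← Category.assoc, ← Category.assoc, h₁]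
    have := (hker t (g₁ ≫ pullback.snd f hA) (g₂ ≫ pullback.snd f hA) (Category.assoc _ _ _)
      ((Category.assoc _ _ _).trans ht₂)).1 (by simpa only [Category.assoc] using h₂)
    rw [← sectAt g₁ t rfl, ← sectAt g₂ t ht₂, this]
    simp only [h₁]
  let ψ₀ : pullback f e ⟶ (E : Scheme.{u}) := EffectiveEpi.desc iπ a' fun g₁ g₂ h => hdesc g₁ g₂ h
  have hψ₀ : iπ ≫ ψ₀ = a' := EffectiveEpi.fac iπ a' _
  have hψu : ψ₀ ≫ u = pullback.fst f e := by
    rw [← cancel_epi iπ, reassoc_of% hψ₀, ha', pullback.lift_fst]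
  haveI : Etale e := hge
  haveI : Etale (pullback.fst f e) := MorphismProperty.pullback_fst _ _ ‹Etale e›
  haveI : Etale (ψ₀ ≫ u) := hψu ▸ inferInstance
  haveI : Etale ψ₀ :=
    MorphismProperty.of_postcomp (W := @Etale) (W' := @Etale) ψ₀ u ‹Etale u› ‹_›
  haveI : Surjective (pullback.diagonal ψ₀) := ⟨fun d => by
    obtain ⟨K, _, _, x, hx⟩ := exists_geomPt d
    let z₁ := x ≫ pullback.fst ψ₀ ψ₀
    let z₂ := x ≫ pullback.snd ψ₀ ψ₀
    have hz : z₁ ≫ ψ₀ = z₂ ≫ ψ₀ := by simp only [z₁, z₂, Category.assoc, pullback.condition]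
    obtain ⟨p₁, hp₁⟩ := iπ.surjective (z₁ default)
    obtain ⟨p₂, hp₂⟩ := iπ.surjective (z₂ default)
    obtain ⟨y₁, hy₁, -⟩ := Scheme.exists_fac_of_etale_of_isSepClosed iπ z₁ p₁ hp₁
    obtain ⟨y₂, hy₂, -⟩ := Scheme.exists_fac_of_etale_of_isSepClosed iπ z₂ p₂ hp₂
    have hy : y₁ ≫ a' = y₂ ≫ a' := by
      rw [← hψ₀, reassoc_of% hy₁, reassoc_of% hy₂, hz]
    have hfst : y₁ ≫ pullback.fst f hA = y₂ ≫ pullback.fst f hA := by
      rw [← ha', reassoc_of% hy]
    let t := y₁ ≫ pullback.snd f hA ≫ hA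
    have ht₂ : y₂ ≫ pullback.snd f hA ≫ hA = t := by
      simp only [t, ← pullback.condition]
      rw [reassoc_of% hfst]
    have hR : sect t (y₁ ≫ pullback.snd f hA) (Category.assoc _ _ _) =
        sect t (y₂ ≫ pullback.snd f hA) ((Category.assoc _ _ _).trans ht₂) := by
      refine (key t (y₁ ≫ pullback.snd f hA) (y₂ ≫ pullback.snd f hA) (Category.assoc _ _ _)
        ((Category.assoc _ _ _).trans ht₂)).1 fun z => ?_
      let k : Spec (CommRingCat.of K) ⟶ Q := pullback.lift (y₁ ≫ pullback.fst f hA)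
        (pullback.lift (y₁ ≫ pullback.snd f hA) (y₂ ≫ pullback.snd f hA)
          ((Category.assoc _ _ _).trans (ht₂.symm.trans (Category.assoc _ _ _).symm)))
        (by simp only [pP, Category.assoc, pullback.lift_fst_assoc]; rw [pullback.condition])
      have hk₁ : k ≫ c₁ = y₁ := by apply pullback.hom_ext <;> simp [k, c₁, q]
      have hk₂ : k ≫ c₂ = y₂ := by apply pullback.hom_ext <;> simp [k, c₂, q, hfst]
      refine ⟨k z, mem_agree u _ _ hc k (by rw [reassoc_of% hk₁, reassoc_of% hk₂, hy]) z, ?_⟩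
      rw [← Scheme.Hom.comp_apply, show k ≫ q = _ from pullback.lift_snd _ _ _]
    have hπy : y₁ ≫ iπ = y₂ ≫ iπ := by
      apply pullback.hom_ext
      · simp only [iπ, Category.assoc, pullback.lift_fst, hfst]
      · simp only [iπ, Category.assoc, pullback.lift_snd]
        simpa only [Category.assoc] using (hker t (y₁ ≫ pullback.snd f hA) (y₂ ≫ pullback.snd f hA)
          (Category.assoc _ _ _) ((Category.assoc _ _ _).trans ht₂)).2 hR
    have hz' : z₁ = z₂ := by rw [← hy₁, ← hy₂, hπy]
    refine ⟨z₁ default, ?_⟩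
    rw [← hx, ← Scheme.Hom.comp_apply]
    refine congrArg (fun m : Spec (CommRingCat.of K) ⟶ pullback ψ₀ ψ₀ => m default) ?_
    apply pullback.hom_ext
    · simp [z₁]
    · simp only [Category.assoc, pullback.diagonal_snd, Category.comp_id]; exact hz'⟩
  haveI : IsIso (pullback.diagonal ψ₀) :=
    (isIso_iff_isOpenImmersion_and_surjective _).2 ⟨inferInstance, inferInstance⟩
  haveI : Mono ψ₀ := (pullback.isIso_diagonal_iff ψ₀).1 inferInstance
  haveI : IsOpenImmersion ψ₀ := IsOpenImmersion.of_flat_of_mono _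
  refine ⟨S₁.left, e, ‹Etale e›, ψ₀ ≫ E.ι, inferInstance, ?_, ?_⟩
  · rw [Category.assoc]; exact hψu
  · rintro _ ⟨p, rfl⟩
    refine ⟨iπ (j p), ?_⟩
    rw [← Scheme.Hom.comp_apply, ← Scheme.Hom.comp_apply]
    refine congrArg (fun m : P ⟶ X' => m p) ?_
    rw [hja, ← hψ₀]
    simp only [Category.assoc]
    rfl

end Groth.Agent.FEtProperConn
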